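import Mathlib
import Cfsg.Agent.Lib.Chev.SuzTwoEnd

/-!
Sums of two powers of two modulo `(2 ^ n - 1) / d` for `d ∣ n`.
-/

set_option autoImplicit false

namespace CfsgLib.Chev.SuzTwoY

lemma sum_two_pow_eq {p q r s : ℕ} (h : 2 ^ p + 2 ^ q = 2 ^ r + 2 ^ s) :
    (p = r ∧ q = s) ∨ (p = s ∧ q = r) := by
  have key : ∀ {p q r s : ℕ}, p ≤ q → r ≤ s → 2 ^ p + 2 ^ q = 2 ^ r + 2 ^ s → p = r ∧ q = s := by
    intro p q r s hpq hrs h
    have hup : ∀ {p q s : ℕ}, p ≤ q → q < s → 2 ^ p + 2 ^ q ≤ 2 ^ s := fun {p q s} hpq hqs => by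
      calc 2 ^ p + 2 ^ q ≤ 2 ^ q + 2 ^ q := by gcongr; norm_num
        _ = 2 ^ (q + 1) := by rw [pow_succ]; ring
        _ ≤ 2 ^ s := Nat.pow_le_pow_right (by norm_num) hqs
    have hqs : q = s := by
      rcases lt_trichotomy q s with hl | hl | hl
      · have := hup hpq hl; have := Nat.two_pow_pos r; omega
      · exact hl
      · have := hup hrs hl; have := Nat.two_pow_pos p; omega
    subst hqs
    exact ⟨Nat.pow_right_injective le_rfl (show 2 ^ p = 2 ^ r by omega), rfl⟩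
  rcases le_total p q with hpq | hpq <;> rcases le_total r s with hrs | hrs
  · exact Or.inl (key hpq hrs h)
  · exact Or.inr (key hpq hrs (h.trans (add_comm _ _)))
  · obtain ⟨h1, h2⟩ := key hpq hrs ((add_comm _ _).trans h)
    exact Or.inr ⟨h2, h1⟩
  · obtain ⟨h1, h2⟩ := key hpq hrs ((add_comm _ _).trans (h.trans (add_comm _ _)))
    exact Or.inl ⟨h2, h1⟩

/-- The exceptional solutions. -/
def Exc (n m k i a : ℕ) : Prop :=
  n = 6 ∧ m = 21 ∧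
    ((k = 2 ∧ i = 3 ∧ a = 5) ∨ (k = 3 ∧ i = 2 ∧ a = 5) ∨ (k = 3 ∧ i = 4 ∧ a = 1) ∨ (k = 4 ∧ i = 3 ∧ a = 1))

instance (n m k i a : ℕ) : Decidable (Exc n m k i a) := by unfold Exc; infer_instance

/-- The check for one value of `n`. -/
def okB (n : ℕ) : Bool :=
  (List.range (n + 1)).all fun d =>
    decide (¬ (d ∣ n ∧ d ∣ 2 ^ n - 1 ∧ d ≠ 1)) ||
      (List.range n).all fun k => (List.range n).all fun i => (List.range n).all fun a =>
        !((2 ^ k + 2 ^ i) % ((2 ^ n - 1) / d) == (1 + 2 ^ a) % ((2 ^ n - 1) / d)) ||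
          decide ((k = 0 ∧ i = a) ∨ (i = 0 ∧ k = a) ∨ Exc n ((2 ^ n - 1) / d) k i a)

lemma ok_all : (List.range 25).all okB = true := by decide +kernel

lemma ok_small {n : ℕ} (hn : n < 25) (d : ℕ) (hd : d < n + 1) (h1 : d ∣ n) (h2 : d ∣ 2 ^ n - 1)
    (h3 : d ≠ 1) (k : ℕ) (hk : k < n) (i : ℕ) (hi : i < n) (a : ℕ) (ha : a < n)
    (h : (2 ^ k + 2 ^ i) % ((2 ^ n - 1) / d) = (1 + 2 ^ a) % ((2 ^ n - 1) / d)) :
    (k = 0 ∧ i = a) ∨ (i = 0 ∧ k = a) ∨ Exc n ((2 ^ n - 1) / d) k i a := by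
  have h0 := ok_all
  simp only [okB, List.all_eq_true, List.mem_range, Bool.or_eq_true, decide_eq_true_eq,
    Bool.not_eq_true', beq_eq_false_iff_ne] at h0
  rcases h0 n hn d hd with h4 | h4
  · exact absurd ⟨h1, h2, h3⟩ h4
  · rcases h4 k hk i hi a ha with h5 | h5
    · exact absurd h h5
    · exact h5

/-- Rotation: four residues fit into three quarters of the circle. -/
lemma rotate {n w k i a : ℕ} (hw : w = 3 * n / 4) (hn : 0 < n) (hk : k < n) (hi : i < n) (ha : a < n) :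
    ∃ s, (0 + s) % n ≤ w ∧ (k + s) % n ≤ w ∧ (i + s) % n ≤ w ∧ (a + s) % n ≤ w := by
  have hm : ∀ {x s : ℕ}, x < n → s ≤ n →
      ((x + s < n ∧ x + s ≤ w) ∨ (n ≤ x + s ∧ x + s ≤ w + n)) → (x + s) % n ≤ w := by
    intro x s hx hs h
    rcases h with ⟨h1, h2⟩ | ⟨h1, h2⟩
    · rw [Nat.mod_eq_of_lt h1]; exact h2
    · rw [Nat.mod_eq_sub_mod h1]
      exact le_trans (Nat.mod_le _ _) (by omega)
  by_cases h0 : k ≤ w ∧ i ≤ w ∧ a ≤ w
  · refine ⟨0, ?_, ?_, ?_, ?_⟩ <;> apply hm <;> omega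
  by_cases h1 : (k ≤ i ∨ k + (n - i) ≥ n) ∧ n - k ≤ w ∧ (i + (n - k) ≤ w ∨ (k ≤ i ∧ i ≤ w + k)) ∧
      (a + (n - k) ≤ w ∨ (k ≤ a ∧ a ≤ w + k))
  · refine ⟨n - k, ?_, ?_, ?_, ?_⟩ <;> apply hm <;> omega
  by_cases h2 : n - i ≤ w ∧ (k + (n - i) ≤ w ∨ (i ≤ k ∧ k ≤ w + i)) ∧
      (a + (n - i) ≤ w ∨ (i ≤ a ∧ a ≤ w + i))
  · refine ⟨n - i, ?_, ?_, ?_, ?_⟩ <;> apply hm <;> omega
  refine ⟨n - a, ?_, ?_, ?_, ?_⟩ <;> apply hm <;> omega

/-- Sums of two powers of two modulo `(2 ^ n - 1) / d`. -/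
theorem sums {n d m k i a : ℕ} (hn : 2 ≤ n) (hd : d ∣ n) (hm : d * m = 2 ^ n - 1) (hk : k < n)
    (hi : i < n) (ha : a < n) (h : 2 ^ k + 2 ^ i ≡ 1 + 2 ^ a [MOD m]) :
    (k = 0 ∧ i = a) ∨ (i = 0 ∧ k = a) ∨ Exc n m k i a := by
  have hd0 : 0 < d := Nat.pos_of_dvd_of_pos hd (by omega)
  by_cases hd1 : d = 1
  · subst hd1
    rw [one_mul] at hm
    subst hm
    exact (SuzTwo.two_pow_sums hn hk hi ha h).imp_right Or.inl
  by_cases hs : n < 25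
  · have := ok_small hs d (Nat.lt_succ_of_le (Nat.le_of_dvd (by omega) hd)) hd ⟨m, hm.symm⟩ hd1
      k hk i hi a ha
    rw [show (2 ^ n - 1) / d = m by rw [← hm, Nat.mul_div_cancel_left _ hd0]] at this
    exact this h
  obtain ⟨s, h0, hks, his, has⟩ := rotate (w := 3 * n / 4) rfl (by omega) hk hi ha
  have h1 : 2 ^ n ≡ 1 [MOD m] :=
    ((Nat.modEq_iff_dvd' Nat.one_le_two_pow).2 ⟨d, by rw [← hm, mul_comm]⟩).symm
  have hred : ∀ x, 2 ^ (x + s) ≡ 2 ^ ((x + s) % n) [MOD m] := fun x => by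
    conv_lhs => rw [← Nat.div_add_mod (x + s) n, pow_add, pow_mul]
    simpa using (h1.pow ((x + s) / n)).mul_right (2 ^ ((x + s) % n))
  have h2 : 2 ^ ((k + s) % n) + 2 ^ ((i + s) % n) ≡ 2 ^ ((0 + s) % n) + 2 ^ ((a + s) % n) [MOD m] := by
    refine ((hred k).add (hred i)).symm.trans (Nat.ModEq.trans ?_ ((hred 0).add (hred a)))
    rw [pow_add, pow_add, pow_add, pow_add, pow_zero, one_mul, ← add_mul,
      show 2 ^ s + 2 ^ a * 2 ^ s = (1 + 2 ^ a) * 2 ^ s by ring]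
    exact h.mul_right _
  have hsmall : ∀ {x y : ℕ}, x ≤ 3 * n / 4 → y ≤ 3 * n / 4 → 2 ^ x + 2 ^ y < m := by
    intro x y hx hy
    refine lt_of_le_of_lt (b := 2 ^ (3 * n / 4 + 1)) ?_ ?_
    · have e1 : 2 ^ x ≤ 2 ^ (3 * n / 4) := Nat.pow_le_pow_right (by norm_num) hx
      have e2 : 2 ^ y ≤ 2 ^ (3 * n / 4) := Nat.pow_le_pow_right (by norm_num) hy
      rw [pow_succ]
      omega
    by_contra hle
    push Not at hle
    have e3 : d * m ≤ n * 2 ^ (3 * n / 4 + 1) := Nat.mul_le_mul (Nat.le_of_dvd (by omega) hd) hle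
    have e4 : n < 2 ^ (n - (3 * n / 4 + 1) - 1) := by
      have hgrow : ∀ j, 4 * j + 28 < 2 ^ (j + 5) := fun j => by
        induction j with
        | zero => norm_num
        | succ j ih => rw [show j + 1 + 5 = j + 5 + 1 by omega, pow_succ]; omega
      refine lt_of_lt_of_le ?_ (Nat.pow_le_pow_right (by norm_num)
        (show n - 3 * n / 4 - 7 + 5 ≤ n - (3 * n / 4 + 1) - 1 by omega))
      refine lt_of_le_of_lt ?_ (hgrow (n - 3 * n / 4 - 7))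
      omega
    have e5 : n * 2 ^ (3 * n / 4 + 1) < 2 ^ (n - 1) := by
      refine lt_of_lt_of_le (Nat.mul_lt_mul_of_pos_right e4 (Nat.two_pow_pos _)) (le_of_eq ?_)
      rw [← pow_add]
      congr 1
      omega
    have e6 : 2 ^ n = 2 ^ (n - 1) * 2 := by rw [← pow_succ]; congr 1; omega
    omega
  have heq := h2.eq_of_lt_of_lt (hsmall hks his) (hsmall h0 has)
  have hinj : ∀ {x y : ℕ}, x < n → y < n → (x + s) % n = (y + s) % n → x = y := by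
    intro x y hx hy e
    exact (Nat.ModEq.add_right_cancel' s (e : x + s ≡ y + s [MOD n])).eq_of_lt_of_lt hx hy
  rcases sum_two_pow_eq heq with ⟨e1, e2⟩ | ⟨e1, e2⟩
  · exact Or.inl ⟨hinj hk (by omega) e1, hinj hi ha e2⟩
  · exact Or.inr (Or.inl ⟨hinj hi (by omega) e2, hinj hk ha e1⟩)

/-- The form used for conjugation characters. -/
theorem conj_sums {n d m k i j : ℕ} (hn : 2 ≤ n) (hd : d ∣ n) (hm : d * m = 2 ^ n - 1) (hk : k < n)
    (hi : i < n) (hj : j < n) (h : 2 ^ k + 2 ^ i ≡ 1 + 2 ^ ((j + k) % n) [MOD m]) :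
    i = j ∧ (i = 0 ∨ k = 0 ∨
      (n = 6 ∧ m = 21 ∧ ((k = 2 ∧ i = 3) ∨ (k = 3 ∧ (i = 2 ∨ i = 4)) ∨ (k = 4 ∧ i = 3)))) := by
  have hcases : j + k < n ∧ (j + k) % n = j + k ∨ n ≤ j + k ∧ (j + k) % n + n = j + k := by
    rcases Nat.lt_or_ge (j + k) n with hlt | hge
    · exact Or.inl ⟨hlt, Nat.mod_eq_of_lt hlt⟩
    · refine Or.inr ⟨hge, ?_⟩
      rw [Nat.mod_eq_sub_mod hge, Nat.mod_eq_of_lt (by omega)]
      omega
  rcases sums hn hd hm hk hi (Nat.mod_lt _ (by omega)) h with ⟨h1, h2⟩ | ⟨h1, h2⟩ | ⟨rfl, rfl, hex⟩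
  · exact ⟨by omega, Or.inr (Or.inl h1)⟩
  · exact ⟨by omega, Or.inl h1⟩
  · refine ⟨by omega, Or.inr (Or.inr ⟨rfl, rfl, ?_⟩)⟩
    omega

/-- The form used for bilinear maps. -/
theorem bilin_sums {n d m i j : ℕ} (hn : 2 ≤ n) (hd : d ∣ n) (hm : d * m = 2 ^ n - 1) (hi : i < n)
    (hj : j < n) (h : 2 ^ i + 2 ^ j ≡ 1 [MOD m]) : i = j := by
  have h1 : 2 ^ n ≡ 1 [MOD m] :=
    ((Nat.modEq_iff_dvd' Nat.one_le_two_pow).2 ⟨d, by rw [← hm, mul_comm]⟩).symm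
  have hs : ∀ {x : ℕ}, x < n → 2 ^ (x + 1) ≡ 2 ^ ((x + 1) % n) [MOD m] := by
    intro x hx
    rcases Nat.lt_or_ge (x + 1) n with hlt | hge
    · rw [Nat.mod_eq_of_lt hlt]
    · rw [show x + 1 = n by omega, Nat.mod_self, pow_zero]; exact h1
  have h2 : 2 ^ ((i + 1) % n) + 2 ^ ((j + 1) % n) ≡ 1 + 2 ^ 0 [MOD m] := by
    refine ((hs hi).add (hs hj)).symm.trans ?_
    have := h.mul_right 2
    rw [add_mul, ← pow_succ, ← pow_succ] at this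
    exact this
  have hi1 : (i + 1) % n = i + 1 ∧ i + 1 < n ∨ (i + 1) % n = 0 ∧ i + 1 = n := by
    rcases Nat.lt_or_ge (i + 1) n with hlt | hge
    · exact Or.inl ⟨Nat.mod_eq_of_lt hlt, hlt⟩
    · exact Or.inr ⟨by rw [show i + 1 = n by omega, Nat.mod_self], by omega⟩
  have hj1 : (j + 1) % n = j + 1 ∧ j + 1 < n ∨ (j + 1) % n = 0 ∧ j + 1 = n := by
    rcases Nat.lt_or_ge (j + 1) n with hlt | hge
    · exact Or.inl ⟨Nat.mod_eq_of_lt hlt, hlt⟩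
    · exact Or.inr ⟨by rw [show j + 1 = n by omega, Nat.mod_self], by omega⟩
  rcases sums hn hd hm (Nat.mod_lt _ (by omega)) (Nat.mod_lt _ (by omega)) (by omega) h2 with
    ⟨e1, e2⟩ | ⟨e1, e2⟩ | ⟨-, -, hex⟩
  · omega
  · omega
  · omega

end CfsgLib.Chev.SuzTwoY
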