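import Mathlib
import Cfsg.Agent.S3360

/-!
Field coordinates for a solvable group transitive on the non-zero vectors of an elementary abelian 2-group.
-/

set_option autoImplicit false

namespace CfsgLib.Chev.SuzTwoY

/-- Field coordinates for a transitive semilinear action: the scalars form a cyclic group of order `m`
generated by the image of `k₀`, of index `d` dividing the degree. -/
structure Coord {V : Type*} [AddCommGroup V] {Y : Type*} [Group Y] (ρ : Y →* AddMonoid.End V)
    (F : Type) [Field F] [Fintype F] where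
  /-- the degree -/
  n : ℕ
  two_le : 2 ≤ n
  card : Fintype.card F = 2 ^ n
  char : CharP F 2
  /-- the coordinate map -/
  e : V ≃+ F
  /-- the index of the scalars -/
  d : ℕ
  /-- the order of the scalars -/
  m : ℕ
  dvd : d ∣ n
  mul_eq : d * m = 2 ^ n - 1
  /-- a generator of the scalars -/
  t : Fˣ
  order_t : orderOf t = m
  /-- its preimage -/
  k₀ : Y
  act_k₀ : ∀ v, e (ρ k₀ v) = (t : F) * e v
  semi : ∀ y : Y, ∃ (a : Fˣ) (s : ℕ), ∀ v, e (ρ y v) = (a : F) * e v ^ 2 ^ s
  surj : ∀ u : Fˣ, ∃ y : Y, e (ρ y (e.symm 1)) = u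

theorem exists_coord {V : Type*} [AddCommGroup V] [Finite V] (h2 : ∀ v : V, v + v = 0)
    (h4 : 4 ≤ Nat.card V) {Y : Type*} [Group Y] [Finite Y] [Group.IsSolvable Y]
    (ρ : Y →* AddMonoid.End V) (htr : ∀ v w : V, v ≠ 0 → w ≠ 0 → ∃ y, ρ y v = w) :
    ∃ (F : Type) (_ : Field F) (_ : Fintype F), Nonempty (Coord ρ F) := by
  classical
  haveI : Fact (Nat.Prime 2) := ⟨Nat.prime_two⟩
  haveI : Nontrivial V := Finite.one_lt_card_iff_nontrivial.1 (by omega)
  letI : Module (ZMod 2) V := AddCommGroup.zmodModule (n := 2) fun v => by rw [two_nsmul]; exact h2 v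
  have hcomp : ∀ (g h : Y) (v : V), ρ g (ρ h v) = ρ (g * h) v := fun g h v => by rw [map_mul]; rfl
  have hone : ∀ v : V, ρ 1 v = v := fun v => by rw [map_one]; rfl
  let ρ₁ : Y →* (V ≃ₗ[ZMod 2] V) :=
    { toFun := fun y =>
        LinearEquiv.ofBijective ((ρ y : V →+ V).toZModLinearMap 2)
          ⟨fun v w (h : ρ y v = ρ y w) => by
              have := congrArg (ρ y⁻¹) h
              rwa [hcomp, hcomp, inv_mul_cancel, hone, hone] at this,
            fun v => ⟨ρ y⁻¹ v, show ρ y (ρ y⁻¹ v) = v by rw [hcomp, mul_inv_cancel, hone]⟩⟩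
      map_one' := LinearEquiv.ext fun v => hone v
      map_mul' := fun a b => LinearEquiv.ext fun v => (hcomp a b v).symm }
  haveI : Finite (V ≃ₗ[ZMod 2] V) :=
    Finite.of_injective (fun f : V ≃ₗ[ZMod 2] V => (f : V → V)) DFunLike.coe_injective
  haveI hsol : Group.IsSolvable ↥ρ₁.range := Group.isSolvable_of_surjective ρ₁.rangeRestrict_surjective
  rcases Cfsg.Agent.S3360.result 2 hsol ρ₁.range.subtype Subtype.val_injective
      (fun v w hv hw => (htr v w hv hw).elim fun y hy => ⟨⟨ρ₁ y, y, rfl⟩, hy⟩) with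
    ⟨F, hF, hFf, e, hsemi⟩ | hex
  swap
  · exfalso
    have h2dvd : ∀ k, Nat.card V = k → Even k := fun k hk => by
      rw [← hk, even_iff_two_dvd]
      haveI : Fintype V := Fintype.ofFinite V
      obtain ⟨v, hv⟩ := exists_ne (0 : V)
      have h : addOrderOf v = 2 := addOrderOf_eq_prime (by rw [two_nsmul]; exact h2 v) hv
      rw [← h]
      exact addOrderOf_dvd_natCard v
    simp only [Set.mem_insert_iff, Set.mem_singleton_iff] at hex
    rcases hex with h | h | h | h | h | h <;> exact absurd (h2dvd _ h) (by decide)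
  haveI hchar : CharP F 2 := by
    have h11 : (1 : F) + 1 = 0 := by
      have := congrArg e (h2 (e.symm 1))
      rwa [map_add, e.apply_symm_apply, map_zero] at this
    exact CharTwo.of_one_ne_zero_of_two_eq_zero one_ne_zero (by rw [← one_add_one_eq_two]; exact h11)
  letI : Algebra (ZMod 2) F := ZMod.algebra F 2
  set n := Module.finrank (ZMod 2) F with hndef
  have hcard : Fintype.card F = 2 ^ n := by
    rw [hndef, Module.card_eq_pow_finrank (K := ZMod 2) (V := F), ZMod.card]
  have hVF : Nat.card V = 2 ^ n := by rw [Nat.card_congr e.toEquiv, Nat.card_eq_fintype_card, hcard]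
  have hn2 : 2 ≤ n := by
    by_contra h
    rw [hVF] at h4
    interval_cases n <;> simp at h4
  have hsemi' : ∀ y : Y, ∃ (a : Fˣ) (τ : F ≃ₐ[ZMod 2] F), ∀ v, e (ρ y v) = (a : F) * τ (e v) := by
    intro y
    obtain ⟨a, σ, h⟩ := hsemi ⟨ρ₁ y, y, rfl⟩
    have h' : ∀ v, e (ρ y v) = a * σ (e v) := h
    have ha : a ≠ 0 := by
      intro ha
      have h1 := h' (ρ y⁻¹ (e.symm 1))
      rw [hcomp, mul_inv_cancel, hone, e.apply_symm_apply, ha, zero_mul] at h1
      exact one_ne_zero h1
    exact ⟨Units.mk0 a ha, AlgEquiv.ofRingEquiv (f := σ) (fun c => by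
      exact RingHom.congr_fun (Subsingleton.elim (σ.toRingHom.comp (algebraMap (ZMod 2) F))
        (algebraMap (ZMod 2) F)) c), h'⟩
  choose a τ hτ using hsemi'
  have huniq : ∀ (y : Y) (b : F) (σ : F ≃ₐ[ZMod 2] F), (∀ v, e (ρ y v) = b * σ (e v)) →
      b = a y ∧ σ = τ y := by
    intro y b σ h
    have h1 := (h (e.symm 1)).symm.trans (hτ y (e.symm 1))
    rw [e.apply_symm_apply, map_one, map_one, mul_one, mul_one] at h1
    refine ⟨h1, AlgEquiv.ext fun x => ?_⟩
    have h2 := (h (e.symm x)).symm.trans (hτ y (e.symm x))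
    rw [e.apply_symm_apply, h1] at h2
    exact mul_left_cancel₀ (a y).ne_zero h2
  let π : Y →* (F ≃ₐ[ZMod 2] F) := MonoidHom.mk' τ fun g h => by
    refine (huniq (g * h) ((a g : F) * τ g (a h)) (τ g * τ h) fun v => ?_).2.symm
    rw [← hcomp, hτ, hτ, map_mul, mul_assoc]
    rfl
  -- the scalars
  let M : Subgroup Fˣ :=
    { carrier := {u | ∃ y, ∀ v, e (ρ y v) = (u : F) * e v}
      one_mem' := ⟨1, fun v => by rw [hone, Units.val_one, one_mul]⟩
      mul_mem' := by
        rintro u w ⟨y, hy⟩ ⟨z, hz⟩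
        exact ⟨y * z, fun v => by rw [← hcomp, hy, hz, Units.val_mul, mul_assoc]⟩
      inv_mem' := by
        rintro u ⟨y, hy⟩
        refine ⟨y⁻¹, fun v => ?_⟩
        have := hy (ρ y⁻¹ v)
        rw [hcomp, mul_inv_cancel, hone] at this
        rw [this, Units.inv_mul_cancel_left] }
  have hMτ : ∀ (y : Y) (u : Fˣ), u ∈ M → Units.map (τ y : F →* F) u ∈ M := by
    rintro y u ⟨z, hz⟩
    refine ⟨y * z * y⁻¹, fun v => ?_⟩
    have h3 := hτ y (ρ y⁻¹ v)
    rw [hcomp, mul_inv_cancel, hone] at h3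
    rw [← hcomp, ← hcomp, hτ, hz, map_mul, h3]
    show (a y : F) * (τ y (u : F) * _) = τ y (u : F) * _
    ring
  -- the action on the cosets of the scalars
  let act : Y → Fˣ ⧸ M → Fˣ ⧸ M := fun y =>
    Quotient.map' (fun u => a y * Units.map (τ y : F →* F) u) fun u w h => by
      rw [QuotientGroup.leftRel_apply] at h ⊢
      have h1 := hMτ y _ h
      rw [map_mul, map_inv] at h1
      rw [mul_inv_rev, mul_assoc, inv_mul_cancel_left]
      exact h1
  have hact : ∀ y (u : Fˣ), act y (u : Fˣ ⧸ M) = ((a y * Units.map (τ y : F →* F) u : Fˣ) : Fˣ ⧸ M) :=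
    fun y u => rfl
  letI : MulAction Y (Fˣ ⧸ M) :=
    { smul := act
      one_smul := fun q => by
        induction q using QuotientGroup.induction_on with
        | _ u =>
          show act 1 (u : Fˣ ⧸ M) = _
          obtain ⟨h1, h2⟩ := huniq 1 1 1 fun v => by rw [hone, one_mul]; rfl
          rw [hact]
          congr 1
          ext
          rw [Units.val_mul, Units.coe_map, ← h2, ← h1, one_mul]
          rfl
      mul_smul := fun g h q => by
        induction q using QuotientGroup.induction_on with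
        | _ u =>
          show act (g * h) (u : Fˣ ⧸ M) = act g (act h _)
          obtain ⟨h1, h2⟩ := huniq (g * h) ((a g : F) * τ g (a h)) (τ g * τ h) fun v => by
            rw [← hcomp, hτ, hτ, map_mul, mul_assoc]; rfl
          rw [hact, hact, hact]
          congr 1
          ext
          simp only [Units.val_mul, Units.coe_map, ← h1, ← h2, map_mul]
          show (a g : F) * τ g (a h) * τ g (τ h u) = (a g : F) * (τ g (a h) * τ g (τ h u))
          ring }
  have hsurj : ∀ u : Fˣ, ∃ y, e (ρ y (e.symm 1)) = u := fun u => by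
    obtain ⟨y, hy⟩ := htr (e.symm 1) (e.symm (u : F)) (fun h => one_ne_zero (α := F) (by simpa using congrArg e h))
      (fun h => u.ne_zero (by simpa using congrArg e h))
    exact ⟨y, by rw [hy, e.apply_symm_apply]⟩
  have ha1 : ∀ (y : Y) (u : Fˣ), e (ρ y (e.symm 1)) = u → a y = u := fun y u h => Units.ext (by
    rw [← h, hτ, e.apply_symm_apply, map_one, mul_one])
  have hto : ∀ q : Fˣ ⧸ M, ∃ y : Y, y • ((1 : Fˣ) : Fˣ ⧸ M) = q := fun q => by
    induction q using QuotientGroup.induction_on with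
    | _ u =>
      obtain ⟨y, hy⟩ := hsurj u
      refine ⟨y, ?_⟩
      show act y _ = _
      rw [hact, map_one, mul_one, ha1 y u hy]
  haveI : MulAction.IsPretransitive Y (Fˣ ⧸ M) := ⟨fun p q => by
    obtain ⟨g, rfl⟩ := hto p
    obtain ⟨h, rfl⟩ := hto q
    exact ⟨h * g⁻¹, by rw [← mul_smul, inv_mul_cancel_right]⟩⟩
  set d := Nat.card (Fˣ ⧸ M) with hddef
  have hdm : d * Nat.card M = 2 ^ n - 1 := by
    rw [hddef, ← Subgroup.card_eq_card_quotient_mul_card_subgroup M, Nat.card_eq_fintype_card,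
      Fintype.card_units, hcard]
  have hdn : d ∣ n := by
    have h1 : π.ker ≤ MulAction.stabilizer Y ((1 : Fˣ) : Fˣ ⧸ M) := by
      intro y hy
      rw [MulAction.mem_stabilizer_iff]
      show act y _ = _
      rw [hact, map_one, mul_one]
      refine QuotientGroup.eq.2 ?_
      rw [mul_one]
      refine inv_mem ⟨y, fun v => ?_⟩
      rw [hτ, show τ y = 1 from hy]
      rfl
    have h2 := Subgroup.index_dvd_of_le h1
    rw [MulAction.index_stabilizer_of_transitive Y ((1 : Fˣ) : Fˣ ⧸ M), ← hddef,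
      Subgroup.index_ker] at h2
    refine h2.trans ?_
    have h3 := π.range.card_subgroup_dvd_card
    rwa [IsGalois.card_aut_eq_finrank] at h3
  obtain ⟨g, hg⟩ := IsCyclic.exists_generator (α := M)
  obtain ⟨k₀, hk₀⟩ := g.2
  refine ⟨F, hF, hFf, ⟨{
    n := n, two_le := hn2, card := hcard, char := hchar, e := e, d := d, m := Nat.card M,
    dvd := hdn, mul_eq := hdm, t := g.1,
    order_t := by rw [Subgroup.orderOf_coe, orderOf_eq_card_of_forall_mem_zpowers hg],
    k₀ := k₀, act_k₀ := hk₀, semi := fun y => ?_, surj := hsurj }⟩⟩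
  obtain ⟨s, hs⟩ := (FiniteField.bijective_frobeniusAlgHom_pow (ZMod 2) F).2 (τ y).toAlgHom
  refine ⟨a y, s, fun v => ?_⟩
  rw [hτ]
  congr 1
  have h5 := (DFunLike.congr_fun hs (e v)).symm
  have h6 : ∀ (j : ℕ) (x : F), (FiniteField.frobeniusAlgHom (ZMod 2) F ^ j) x = x ^ 2 ^ j := by
    intro j x
    induction j with
    | zero => simp
    | succ j ih =>
      rw [pow_succ', AlgHom.mul_apply, ih]
      simp [← pow_mul, ← pow_succ]
  rw [h6] at h5
  exact h5

end CfsgLib.Chev.SuzTwoY
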