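import Mathlib
import Cfsg.Agent.Lib.Chev.SuzTwoY.Arith
import Cfsg.Agent.Lib.Chev.SuzTwoY.Field

/-!
Equivariant bilinear maps and stable subgroups of endomorphisms for a solvable transitive semilinear action.
-/

set_option autoImplicit false

namespace CfsgLib.Chev.SuzTwoY

open Polynomial

namespace Coord

variable {V : Type*} [AddCommGroup V] {Y : Type*} [Group Y] {ρ : Y →* AddMonoid.End V}
  {F : Type} [Field F] [Fintype F]

/-- Every additive map is uniquely a linearised polynomial. -/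
lemma exists_pw (c : Coord ρ F) :
    (∀ φ : F →+ F, ∃ a : Fin c.n → F, ∀ x, φ x = ∑ i, a i * x ^ 2 ^ (i : ℕ)) ∧
      ∀ a : Fin c.n → F, (∀ x, ∑ i, a i * x ^ 2 ^ (i : ℕ) = 0) → a = 0 := by
  classical
  haveI := c.char
  haveI : Fact (Nat.Prime 2) := ⟨Nat.prime_two⟩
  letI : Algebra (ZMod 2) F := ZMod.algebra F 2
  let σ : Fin c.n → (F →ₐ[ZMod 2] F) := fun i => FiniteField.frobeniusAlgHom (ZMod 2) F ^ (i : ℕ)
  have hfr : ∀ (j : ℕ) (x : F), (FiniteField.frobeniusAlgHom (ZMod 2) F ^ j) x = x ^ 2 ^ j := by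
    intro j x
    induction j with
    | zero => simp
    | succ j ih =>
      rw [pow_succ', AlgHom.mul_apply, ih]
      simp [← pow_mul, ← pow_succ]
  have hσ : ∀ (i : Fin c.n) (x : F), σ i x = x ^ 2 ^ (i : ℕ) := fun i => hfr i
  have hrk : Module.finrank (ZMod 2) F = c.n := by
    have h := Module.card_eq_pow_finrank (K := ZMod 2) (V := F)
    rw [c.card, ZMod.card] at h
    exact (Nat.pow_right_injective le_rfl h).symm
  have hbij : Function.Bijective σ := by
    have h := FiniteField.bijective_frobeniusAlgHom_pow (ZMod 2) F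
    have e1 : σ = (fun i : Fin (Module.finrank (ZMod 2) F) => FiniteField.frobeniusAlgHom (ZMod 2) F ^ (i : ℕ)) ∘
        (finCongr hrk.symm) := rfl
    rw [e1]
    exact h.comp (finCongr hrk.symm).bijective
  let v : Fin c.n → (F →ₗ[ZMod 2] F) := fun i => (σ i).toLinearMap
  have hind : LinearIndependent F v :=
    (linearIndependent_algHom_toLinearMap (ZMod 2) F F).comp σ hbij.1
  haveI : Nonempty (Fin c.n) := ⟨⟨0, by have := c.two_le; omega⟩⟩
  have hspan := hind.span_eq_top_of_card_eq_finrank (by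
    rw [Fintype.card_fin, Module.finrank_linearMap_self, hrk])
  refine ⟨fun φ => ?_, fun a ha => ?_⟩
  · have hl : φ.toZModLinearMap 2 ∈ Submodule.span F (Set.range v) := by
      rw [hspan]; exact Submodule.mem_top
    obtain ⟨a, ha⟩ := (Submodule.mem_span_range_iff_exists_fun F).1 hl
    refine ⟨a, fun x => ?_⟩
    have := LinearMap.congr_fun ha x
    simp only [LinearMap.sum_apply, LinearMap.smul_apply, smul_eq_mul, v,
      AlgHom.toLinearMap_apply, hσ] at this
    exact this.symm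
  · refine funext (Fintype.linearIndependent_iff.1 hind a (LinearMap.ext fun x => ?_))
    simpa [v, hσ] using ha x

lemma m_one_lt (c : Coord ρ F) : 1 < c.m := by
  have h1 := Nat.le_of_dvd (by have := c.two_le; omega) c.dvd
  have h2 : c.n + 1 < 2 ^ c.n := by
    have : ∀ j, j + 2 + 1 < 2 ^ (j + 2) := fun j => by
      induction j with
      | zero => norm_num
      | succ j ih => rw [show j + 1 + 2 = j + 2 + 1 by omega, pow_succ]; omega
    have h := this (c.n - 2)
    rwa [Nat.sub_add_cancel c.two_le] at h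
  by_contra hm
  have := c.mul_eq
  have hm' : c.m = 0 ∨ c.m = 1 := by omega
  rcases hm' with h | h <;> rw [h] at this <;> omega

lemma pow_two_mod (c : Coord ρ F) (x : ℕ) : 2 ^ x ≡ 2 ^ (x % c.n) [MOD c.m] := by
  have h1 : 2 ^ c.n ≡ 1 [MOD c.m] :=
    ((Nat.modEq_iff_dvd' Nat.one_le_two_pow).2 ⟨c.d, by rw [← c.mul_eq, mul_comm]⟩).symm
  conv_lhs => rw [← Nat.div_add_mod x c.n, pow_add, pow_mul]
  simpa using (h1.pow (x / c.n)).mul_right (2 ^ (x % c.n))

/-- The element `k₀` fixes only zero. -/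
lemma fixed_eq_zero (c : Coord ρ F) {v : V} (hv : ρ c.k₀ v = v) : v = 0 := by
  by_contra h
  have h1 := c.act_k₀ v
  rw [hv] at h1
  have ht : (c.t : F) = 1 :=
    mul_right_cancel₀ (b := c.e v) (fun h0 => h (c.e.injective (by rw [h0, map_zero])))
      (by rw [one_mul]; exact h1.symm)
  have := c.order_t
  rw [show c.t = 1 from Units.ext ht, orderOf_one] at this
  have := c.m_one_lt
  omega

/-- An equivariant biadditive map with vanishing diagonal is zero. -/
theorem bilin_zero (c : Coord ρ F) (β : V → V → V) (hl : ∀ u v w, β (u + v) w = β u w + β v w)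
    (hr : ∀ u v w, β u (v + w) = β u v + β u w) (hdiag : ∀ u, β u u = 0)
    (hk : ∀ u v, β (ρ c.k₀ u) (ρ c.k₀ v) = ρ c.k₀ (β u v)) (u v : V) : β u v = 0 := by
  classical
  haveI := c.char
  obtain ⟨hex, huniq⟩ := c.exists_pw
  let B : F → F → F := fun x y => c.e (β (c.e.symm x) (c.e.symm y))
  have hBl : ∀ x y z, B (x + y) z = B x z + B y z := fun x y z => by
    simp only [B, map_add, hl]
  have hBr : ∀ x y z, B x (y + z) = B x y + B x z := fun x y z => by
    simp only [B, map_add, hr]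
  choose A hA using fun x => hex (AddMonoidHom.mk' (B x) (hBr x))
  have hAadd : ∀ x y, A (x + y) = A x + A y := fun x y => by
    rw [← sub_eq_zero]
    refine huniq _ fun z => ?_
    have h1 := hA (x + y) z
    have h2 := hA x z
    have h3 := hA y z
    simp only [AddMonoidHom.mk'_apply] at h1 h2 h3
    rw [hBl, h2, h3] at h1
    simp only [Pi.sub_apply, Pi.add_apply, sub_mul, add_mul, Finset.sum_sub_distrib, Finset.sum_add_distrib,
      ← h1, sub_self]
  choose C hC using fun i => hex (AddMonoidHom.mk' (fun x => A x i) fun x y => congrFun (hAadd x y) i)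
  have hBt : ∀ x y, B ((c.t : F) * x) ((c.t : F) * y) = (c.t : F) * B x y := fun x y => by
    have e1 : ∀ z, c.e.symm ((c.t : F) * z) = ρ c.k₀ (c.e.symm z) := fun z => c.e.injective (by
      rw [c.e.apply_symm_apply, c.act_k₀, c.e.apply_symm_apply])
    simp only [B]
    rw [e1, e1, hk, c.act_k₀]
  have hoff : ∀ i j : Fin c.n, i ≠ j → C i j = 0 := by
    intro i j hij
    have h1 : ∀ x, (fun i : Fin c.n => A ((c.t : F) * x) i * (c.t : F) ^ 2 ^ (i : ℕ) - (c.t : F) * A x i) = 0 := by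
      intro x
      refine huniq _ fun y => ?_
      have h2 := hA ((c.t : F) * x) ((c.t : F) * y)
      have h3 := hA x y
      simp only [AddMonoidHom.mk'_apply] at h2 h3
      rw [hBt, h3, Finset.mul_sum] at h2
      simp only [sub_mul, Finset.sum_sub_distrib]
      rw [sub_eq_zero]
      refine Eq.trans ?_ (Eq.trans h2.symm ?_) <;> exact Finset.sum_congr rfl fun i _ => by ring
    have h4 : (fun j : Fin c.n => (C i j * (c.t : F) ^ 2 ^ (i : ℕ)) * (c.t : F) ^ 2 ^ (j : ℕ) -
        (c.t : F) * C i j) = 0 := by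
      refine huniq _ fun x => ?_
      have h5 := congrFun (h1 x) i
      have h6 := hC i ((c.t : F) * x)
      have h7 := hC i x
      simp only [AddMonoidHom.mk'_apply] at h6 h7
      simp only [Pi.zero_apply, h6, h7, Finset.sum_mul, Finset.mul_sum, ← Finset.sum_sub_distrib] at h5
      refine Eq.trans (Finset.sum_congr rfl fun j _ => ?_) h5
      rw [mul_pow]; ring
    by_contra hne
    have h8 := congrFun h4 j
    simp only [Pi.zero_apply, sub_eq_zero] at h8
    have h9 : c.t ^ (2 ^ (i : ℕ) + 2 ^ (j : ℕ)) = c.t ^ 1 := Units.ext (by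
      rw [pow_add, pow_one]
      push_cast
      refine mul_left_cancel₀ hne ?_
      linear_combination h8)
    rw [pow_eq_pow_iff_modEq, c.order_t] at h9
    exact hij (Fin.ext (bilin_sums c.two_le c.dvd c.mul_eq i.2 j.2 h9))
  have hdia : ∀ i : Fin c.n, C i i = 0 := fun i => by
    refine congrFun (huniq (fun i => C i i) fun y => ?_) i
    obtain ⟨x, rfl⟩ := FiniteField.isSquare_of_char_two (ringChar.eq F 2) y
    have h1 := hA x x
    simp only [AddMonoidHom.mk'_apply] at h1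
    have h2 : B x x = 0 := by simp only [B, hdiag, map_zero]
    rw [h2] at h1
    refine Eq.trans (Finset.sum_congr rfl fun i _ => ?_) h1.symm
    have h3 := hC i x
    simp only [AddMonoidHom.mk'_apply] at h3
    rw [h3, Finset.sum_eq_single i (fun j _ hj => by rw [hoff i j (Ne.symm hj), zero_mul])
      (fun h => absurd (Finset.mem_univ i) h), mul_pow, mul_assoc]
  refine c.e.injective ?_
  have h1 := hA (c.e u) (c.e v)
  simp only [AddMonoidHom.mk'_apply, B, c.e.symm_apply_apply] at h1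
  rw [h1, map_zero]
  refine Finset.sum_eq_zero fun i _ => ?_
  have h3 := hC i (c.e u)
  simp only [AddMonoidHom.mk'_apply] at h3
  rw [h3, Finset.sum_eq_zero fun j _ => ?_, zero_mul]
  by_cases hij : i = j
  · rw [← hij, hdia, zero_mul]
  · rw [hoff i j hij, zero_mul]

/-- Conjugation of a monomial map by a semilinear element. -/
lemma conj_monomial (c : Coord ρ F) {g : Y} {a : Fˣ} {s i : ℕ}
    (hg : ∀ v, c.e (ρ g v) = (a : F) * c.e v ^ 2 ^ s) {φ : V →+ V} {y : F}
    (hφ : ∀ v, c.e (φ v) = y * c.e v ^ 2 ^ i) (v : V) :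
    c.e (ρ g (φ (ρ g⁻¹ v))) = (a : F) * y ^ 2 ^ s * ((a : F)⁻¹ * c.e v) ^ 2 ^ i := by
  have hw : ρ g (ρ g⁻¹ v) = v := by
    change (ρ g * ρ g⁻¹) v = v
    rw [← map_mul, mul_inv_cancel, map_one]; rfl
  have h := hg (ρ g⁻¹ v)
  rw [hw] at h
  rw [hg, hφ, mul_pow, mul_assoc]
  congr 2
  rw [← pow_mul, mul_comm (2 ^ i), pow_mul, h, inv_mul_cancel_left₀ a.ne_zero]

/-- An element with even field twist outside the scalars, in the exceptional case. -/
lemma exists_even (c : Coord ρ F) (hn : c.n = 6) :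
    ∃ (g : Y) (a : Fˣ) (s : ℕ), Even s ∧ (∀ v, c.e (ρ g v) = (a : F) * c.e v ^ 2 ^ s) ∧
      a ^ 21 ≠ 1 := by
  classical
  obtain ⟨u, hu⟩ := IsCyclic.exists_generator (α := Fˣ)
  have hou : orderOf u = 63 := by
    rw [orderOf_eq_card_of_forall_mem_zpowers hu, Nat.card_eq_fintype_card, Fintype.card_units, c.card, hn]
    norm_num
  have hne : ∀ j : ℕ, ¬ 3 ∣ j → (u ^ j) ^ 21 ≠ 1 := fun j hj h => by
    rw [← pow_mul] at h
    have := orderOf_dvd_of_pow_eq_one h
    rw [hou] at this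
    omega
  have hget : ∀ w : Fˣ, ∃ (g : Y) (s : ℕ), ∀ v, c.e (ρ g v) = (w : F) * c.e v ^ 2 ^ s := fun w => by
    obtain ⟨g, hg⟩ := c.surj w
    obtain ⟨a, s, h⟩ := c.semi g
    refine ⟨g, s, ?_⟩
    rw [h, c.e.apply_symm_apply, one_pow, mul_one] at hg
    rw [← hg]
    exact h
  obtain ⟨g₁, s₁, h₁⟩ := hget u
  by_cases e1 : Even s₁
  · exact ⟨g₁, u, s₁, e1, h₁, by simpa using hne 1 (by norm_num)⟩
  obtain ⟨g₂, s₂, h₂⟩ := hget (u ^ 2)
  by_cases e2 : Even s₂
  · exact ⟨g₂, u ^ 2, s₂, e2, h₂, hne 2 (by norm_num)⟩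
  refine ⟨g₂ * g₁, u ^ (2 + 2 ^ s₂), s₁ + s₂, (Nat.not_even_iff_odd.1 e1).add_odd (Nat.not_even_iff_odd.1 e2),
    fun v => ?_, hne _ ?_⟩
  · have h3 : ρ (g₂ * g₁) v = ρ g₂ (ρ g₁ v) := by rw [map_mul]; rfl
    rw [h3, h₂, h₁, mul_pow, ← pow_mul, ← pow_add (2 : ℕ), pow_add u]
    push_cast
    ring
  · obtain ⟨j, hj⟩ := Nat.not_even_iff_odd.1 e2
    have h4 : 2 ^ s₂ % 3 = 2 := by
      rw [hj, pow_succ, pow_mul, Nat.mul_mod, Nat.pow_mod]
      norm_num
    omega

/-- Stable subgroups of endomorphisms without points fixed by `k₀` are generated by subgroups of injective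
maps, each with more elements than any of them has fixed points. -/
theorem split (c : Coord ρ F) [Finite V] (U : AddSubgroup (V →+ V))
    (hU : ∀ k, ∀ φ ∈ U, AddMonoidHom.comp (ρ k) (φ.comp (ρ k⁻¹)) ∈ U)
    (hfix : ∀ φ ∈ U, AddMonoidHom.comp (ρ c.k₀) (φ.comp (ρ c.k₀⁻¹)) = φ → φ = 0) :
    U ≤ AddSubgroup.closure {φ | ∃ L : AddSubgroup (V →+ V), L ≤ U ∧ φ ∈ L ∧
      (∀ ψ ∈ L, ψ ≠ 0 → Function.Injective ψ) ∧
      ∀ ψ ∈ L, ψ ≠ 0 → Nat.card {v : V // ψ v = v} < Nat.card L} := by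
  classical
  haveI := c.char
  haveI : Fact (Nat.Prime 2) := ⟨Nat.prime_two⟩
  letI : Algebra (ZMod 2) F := ZMod.algebra F 2
  obtain ⟨hex, huniq⟩ := c.exists_pw
  set n := c.n with hn
  have hn2 := c.two_le
  let Ψ : (Fin n → F) →+ (V →+ V) :=
    { toFun := fun a => AddMonoidHom.mk' (fun x => c.e.symm (∑ i, a i * c.e x ^ 2 ^ (i : ℕ)))
        (fun x y => by simp [map_add, add_pow_char_pow, mul_add, Finset.sum_add_distrib])
      map_zero' := by ext x; simp
      map_add' := fun a b => by ext x; simp [add_mul, Finset.sum_add_distrib] }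
  have hΨ : ∀ a x, c.e (Ψ a x) = ∑ i, a i * c.e x ^ 2 ^ (i : ℕ) := fun a x => by
    show c.e (c.e.symm _) = _
    rw [c.e.apply_symm_apply]
  have hsingle : ∀ i y x, c.e (Ψ (Pi.single i y) x) = y * c.e x ^ 2 ^ (i : ℕ) := fun i y x => by
    rw [hΨ, Finset.sum_eq_single i (fun j _ hj => by rw [Pi.single_eq_of_ne hj, zero_mul])
      (fun h => absurd (Finset.mem_univ i) h), Pi.single_eq_same]
  have hΨsurj : Function.Surjective Ψ := by
    intro φ
    obtain ⟨a, ha⟩ := hex (c.e.toAddMonoidHom.comp (φ.comp c.e.symm.toAddMonoidHom))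
    refine ⟨a, AddMonoidHom.ext fun x => c.e.injective ?_⟩
    rw [hΨ, ← ha]
    show c.e (φ (c.e.symm (c.e x))) = _
    rw [c.e.symm_apply_apply]
  have hΨinj : Function.Injective Ψ := by
    rw [injective_iff_map_eq_zero]
    intro a ha
    refine huniq a fun x => ?_
    have := hΨ a (c.e.symm x)
    rw [ha, c.e.apply_symm_apply, AddMonoidHom.zero_apply, map_zero] at this
    exact this.symm
  -- the action of the scalars
  let Λ : Fin n → F := fun i => ((c.t * (c.t⁻¹) ^ 2 ^ (i : ℕ) : Fˣ) : F)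
  have hk₀' : ∀ v, c.e (ρ c.k₀⁻¹ v) = ((c.t⁻¹ : Fˣ) : F) * c.e v := fun v => by
    have h := c.act_k₀ (ρ c.k₀⁻¹ v)
    rw [show ρ c.k₀ (ρ c.k₀⁻¹ v) = v by
      change (ρ c.k₀ * ρ c.k₀⁻¹) v = v
      rw [← map_mul, mul_inv_cancel, map_one]; rfl] at h
    rw [h, Units.inv_mul_cancel_left]
  have hΛ : ∀ a, AddMonoidHom.comp (ρ c.k₀) ((Ψ a).comp (ρ c.k₀⁻¹)) = Ψ (Λ * a) := fun a => by
    refine AddMonoidHom.ext fun x => c.e.injective ?_
    show c.e (ρ c.k₀ (Ψ a (ρ c.k₀⁻¹ x))) = _
    rw [c.act_k₀, hΨ, hΨ, hk₀', Finset.mul_sum]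
    refine Finset.sum_congr rfl fun i _ => ?_
    simp only [Pi.mul_apply, Λ, mul_pow, Units.val_mul, Units.val_pow_eq_pow_val]
    ring
  let S : AddSubgroup (Fin n → F) := U.comap Ψ
  obtain ⟨T, hT⟩ : ∃ T : Subring (Fin n → F), ∀ r, r ∈ T ↔ ∀ a ∈ S, r * a ∈ S := ⟨
    { carrier := {r | ∀ a ∈ S, r * a ∈ S}
      one_mem' := fun a ha => by rwa [one_mul]
      zero_mem' := fun a _ => by rw [zero_mul]; exact zero_mem S
      add_mem' := fun {r s} hr hs a ha => by rw [add_mul]; exact add_mem (hr a ha) (hs a ha)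
      mul_mem' := fun {r s} hr hs a ha => by rw [mul_assoc]; exact hr _ (hs a ha)
      neg_mem' := fun {r} hr a ha => by rw [neg_mul]; exact neg_mem (hr a ha) }, fun r => Iff.rfl⟩
  have hk₀T : Λ ∈ T := (hT _).2 fun a ha => by
    show Ψ (Λ * a) ∈ U
    rw [← hΛ]; exact hU c.k₀ _ ha
  have haev : ∀ p : (ZMod 2)[X], aeval Λ p ∈ T := by
    intro p
    induction p using Polynomial.induction_on' with
    | add p q hp hq => rw [map_add]; exact add_mem hp hq
    | monomial m b =>
      rw [aeval_monomial, ← ZMod.natCast_zmod_val b, map_natCast]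
      exact mul_mem (natCast_mem T _) (pow_mem hk₀T m)
  have hconj : ∀ (i j : Fin n) (k : ℕ), k < n → Λ j ^ 2 ^ k = Λ i →
      i = j ∧ ((i : ℕ) = 0 ∨ k = 0 ∨ (n = 6 ∧ c.m = 21 ∧
        ((k = 2 ∧ (i : ℕ) = 3) ∨ (k = 3 ∧ ((i : ℕ) = 2 ∨ (i : ℕ) = 4)) ∨ (k = 4 ∧ (i : ℕ) = 3)))) := by
    intro i j k hk h
    simp only [Λ] at h
    rw [← Units.val_pow_eq_pow_val] at h
    have h' := Units.ext h
    rw [mul_pow, ← pow_mul, ← pow_add] at h'
    have h'' : c.t ^ (2 ^ k + 2 ^ (i : ℕ)) = c.t ^ (1 + 2 ^ ((j : ℕ) + k)) := by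
      rw [pow_add, pow_add, pow_one]
      calc c.t ^ 2 ^ k * c.t ^ 2 ^ (i : ℕ)
          = c.t ^ 2 ^ k * (c.t⁻¹) ^ 2 ^ ((j : ℕ) + k) * c.t ^ 2 ^ ((j : ℕ) + k) * c.t ^ 2 ^ (i : ℕ) := by
            rw [inv_pow, inv_mul_cancel_right]
        _ = c.t * (c.t⁻¹) ^ 2 ^ (i : ℕ) * c.t ^ 2 ^ ((j : ℕ) + k) * c.t ^ 2 ^ (i : ℕ) := by rw [h']
        _ = c.t * c.t ^ 2 ^ ((j : ℕ) + k) := by
            rw [inv_pow, mul_right_comm, inv_mul_cancel_right]
    rw [pow_eq_pow_iff_modEq, c.order_t] at h''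
    obtain ⟨e1, e2⟩ := conj_sums hn2 c.dvd c.mul_eq hk i.2 j.2
      (h''.trans ((c.pow_two_mod _).add_left 1))
    exact ⟨Fin.ext e1, e2⟩
  -- idempotents
  have hidem : ∀ i : Fin n, Pi.single i (1 : F) ∈ T := by
    intro i
    have := haev ((∏ j ∈ Finset.univ.erase i, minpoly (ZMod 2) (Λ j)) ^ (2 ^ n - 1))
    have hNne : 2 ^ n - 1 ≠ 0 := by
      have := Nat.one_lt_two_pow (n := n) (by omega); omega
    convert! this using 1
    funext l
    rw [← Pi.evalAlgHom_apply (ZMod 2) (fun _ : Fin n => F) l (aeval Λ _),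
      ← aeval_algHom_apply, Pi.evalAlgHom_apply, map_pow, map_prod]
    by_cases hl : l = i
    · subst hl
      rw [Pi.single_eq_same]
      refine ((congrArg (fun m => _ ^ (m - 1)) c.card.symm).trans
        (FiniteField.pow_card_sub_one_eq_one _ ?_)).symm
      refine Finset.prod_ne_zero_iff.2 fun j hj hz => ?_
      obtain ⟨τ, hτ⟩ := isConjRoot_iff_exists_algEquiv.1
        ((isConjRoot_iff_aeval_eq_zero (Algebra.IsIntegral.isIntegral (Λ j))).2 hz).symm
      obtain ⟨k, hk⟩ := (FiniteField.bijective_frobeniusAlgHom_pow (ZMod 2) F).2 τ.toAlgHom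
      have hkn : (k : ℕ) < n := by
        have h := Module.card_eq_pow_finrank (K := ZMod 2) (V := F)
        rw [c.card, ZMod.card] at h
        have := Nat.pow_right_injective le_rfl h
        omega
      have hfr : ∀ (j : ℕ) (x : F), (FiniteField.frobeniusAlgHom (ZMod 2) F ^ j) x = x ^ 2 ^ j := by
        intro j x
        induction j with
        | zero => simp
        | succ j ih =>
          rw [pow_succ', AlgHom.mul_apply, ih]
          simp [← pow_mul, ← pow_succ]
      have hk' : Λ j ^ 2 ^ (k : ℕ) = Λ l := by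
        rw [← hfr]
        exact (DFunLike.congr_fun hk (Λ j)).trans hτ
      exact Finset.ne_of_mem_erase hj (hconj l j k hkn hk').1.symm
    · rw [Pi.single_eq_of_ne hl, Finset.prod_eq_zero (Finset.mem_erase.2 ⟨hl, Finset.mem_univ l⟩)
        (minpoly.aeval _ _), zero_pow hNne]
  -- the components
  intro φ hφ
  obtain ⟨a, rfl⟩ := hΨsurj φ
  rw [← Finset.univ_sum_single a, map_sum]
  refine sum_mem fun i _ => ?_
  have haS : Pi.single i (a i) ∈ S := by
    convert! (hT _).1 (hidem i) a hφ using 1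
    funext l
    by_cases hl : l = i
    · subst hl; simp
    · simp [Pi.single_eq_of_ne hl]
  by_cases hz : Ψ (Pi.single i (a i)) = 0
  · rw [hz]; exact zero_mem _
  by_cases hi : (i : ℕ) = 0
  · refine absurd (hfix _ haS ?_) hz
    rw [hΛ]
    congr 1
    funext l
    by_cases hl : l = i
    · subst hl
      simp [Λ, hi]
    · simp [Pi.single_eq_of_ne hl]
  have hai : a i ≠ 0 := fun h => hz (by rw [h, Pi.single_zero, map_zero])
  let W : AddSubgroup F := S.comap (AddMonoidHom.single (fun _ : Fin n => F) i)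
  have hW : ∀ y, y ∈ W ↔ Pi.single i y ∈ S := fun y => Iff.rfl
  refine AddSubgroup.subset_closure
    ⟨W.map (Ψ.comp (AddMonoidHom.single (fun _ : Fin n => F) i)), ?_, ⟨a i, haS, rfl⟩, ?_, ?_⟩
  · rintro _ ⟨y, hy, rfl⟩
    exact hy
  · rintro _ ⟨y, -, rfl⟩ hy x x' hxx
    have h := congrArg c.e hxx
    simp only [AddMonoidHom.comp_apply, AddMonoidHom.single_apply] at h hy
    rw [hsingle, hsingle] at h
    have hy0 : y ≠ 0 := fun h0 => hy (by rw [h0, Pi.single_zero, map_zero])
    exact c.e.injective (iterateFrobenius_inj F 2 i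
      (by simpa [iterateFrobenius_def] using mul_left_cancel₀ hy0 h))
  have hcardL : Nat.card ↥(W.map (Ψ.comp (AddMonoidHom.single (fun _ : Fin n => F) i))) = Nat.card W :=
    (Nat.card_congr (W.equivMapOfInjective _ fun x y h =>
      Pi.single_injective i (hΨinj h)).toEquiv).symm
  rintro _ ⟨y, -, rfl⟩ hy
  rw [hcardL]
  simp only [AddMonoidHom.comp_apply, AddMonoidHom.single_apply] at hy ⊢
  have hy0 : y ≠ 0 := fun h0 => hy (by rw [h0, Pi.single_zero, map_zero])
  set Fx := {x : F // y * x ^ 2 ^ (i : ℕ) = x} with hFx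
  have hFxc : Nat.card {v : V // Ψ (Pi.single i y) v = v} = Nat.card Fx :=
    Nat.card_congr (c.e.toEquiv.subtypeEquiv fun v => by
      show _ ↔ y * c.e v ^ 2 ^ (i : ℕ) = c.e v
      rw [← hsingle]
      exact c.e.injective.eq_iff.symm)
  rw [hFxc]
  -- the ring of multipliers of the component
  obtain ⟨R, hR⟩ : ∃ R : Subring F, ∀ x, x ∈ R ↔ Pi.single i x ∈ T := ⟨
    { carrier := {x | Pi.single i x ∈ T}
      one_mem' := by show Pi.single i (1 : F) ∈ T; exact hidem i
      zero_mem' := by show Pi.single i (0 : F) ∈ T; rw [Pi.single_zero]; exact zero_mem T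
      add_mem' := fun {u v} hu hv => by
        show Pi.single i (u + v) ∈ T
        rw [Pi.single_add]; exact add_mem hu hv
      mul_mem' := fun {u v} hu hv => by
        show Pi.single i (u * v) ∈ T
        rw [Pi.single_mul]; exact mul_mem hu hv
      neg_mem' := fun {u} hu => by
        show Pi.single i (-u) ∈ T
        rw [Pi.single_neg]; exact neg_mem hu }, fun x => Iff.rfl⟩
  have hWR : ∀ r ∈ R, ∀ w ∈ W, r * w ∈ W := fun r hr w hw => by
    rw [hW, Pi.single_mul]
    exact (hT _).1 ((hR r).1 hr) _ hw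
  have hΛR : Λ i ∈ R := by
    rw [hR]
    convert! mul_mem hk₀T (hidem i) using 1
    funext l
    by_cases hl : l = i
    · subst hl; simp
    · simp [Pi.single_eq_of_ne hl]
  haveI : Fintype R := Fintype.ofFinite R
  letI : Field R := Fintype.fieldOfDomain R
  obtain ⟨d, -, hd⟩ := FiniteField.card R 2
  have hpow : ∀ r ∈ R, r ^ 2 ^ (d : ℕ) = r := fun r hr => by
    have := congrArg Subtype.val (FiniteField.pow_card (⟨r, hr⟩ : R))
    rwa [hd] at this
  have haW : a i ∈ W := (hW _).2 haS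
  have hRle : 2 ^ (d : ℕ) ≤ Nat.card W := by
    rw [← hd, ← Nat.card_eq_fintype_card]
    exact Nat.card_le_card_of_injective (fun r : R => (⟨(r : F) * a i, hWR r r.2 _ haW⟩ : W))
      fun r r' h => Subtype.ext (mul_right_cancel₀ hai (congrArg Subtype.val h))
  have hle : Fintype.card R ≤ Fintype.card F := Fintype.card_le_of_injective _ Subtype.val_injective
  rw [hd, c.card, Nat.pow_le_pow_iff_right (by norm_num), ← hn] at hle
  rcases hle.lt_or_eq with hlt | heq
  swap
  · -- full line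
    rw [heq] at hRle
    refine lt_of_lt_of_le ?_ hRle
    rw [← c.card, ← Nat.card_eq_fintype_card (α := F)]
    refine lt_of_le_of_ne (Nat.card_le_card_of_injective _ Subtype.val_injective) fun hc => ?_
    have hb : Function.Bijective (Subtype.val : Fx → F) :=
      (Nat.bijective_iff_injective_and_card _).2 ⟨Subtype.val_injective, hc⟩
    have h0 := huniq (Pi.single i y - Pi.single ⟨0, by omega⟩ 1) fun x => by
      obtain ⟨⟨x, hx⟩, rfl⟩ := hb.2 x
      have e1 : ∀ (j : Fin n) (z : F), ∑ l : Fin n, (Pi.single j z : Fin n → F) l * x ^ 2 ^ (l : ℕ) =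
          z * x ^ 2 ^ (j : ℕ) := fun j z => by
        rw [Finset.sum_eq_single j (fun l _ hl => by rw [Pi.single_eq_of_ne hl, zero_mul])
          (fun h => absurd (Finset.mem_univ j) h), Pi.single_eq_same]
      simp only [Pi.sub_apply, sub_mul, Finset.sum_sub_distrib, e1, hx]
      simp
    have h1 := congrFun h0 i
    rw [Pi.sub_apply, Pi.single_eq_same, Pi.single_eq_of_ne (fun h => hi (congrArg Fin.val h)),
      sub_zero] at h1
    exact hy0 h1
  -- the exceptional case
  rcases (hconj i i d hlt (hpow _ hΛR)).2 with h | h | ⟨hn6, -, hex6⟩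
  · exact absurd h hi
  · exact absurd h d.2.ne'
  have hbound : ∀ N : ℕ, 2 ≤ N → (∀ z : F, z ^ 2 ^ (i : ℕ) = z → z ^ N = z) → Nat.card Fx ≤ N := by
    intro N hN hz'
    have hpne : (X ^ N - X : F[X]) ≠ 0 := FiniteField.X_pow_card_sub_X_ne_zero F (by omega)
    have hdeg : (X ^ N - X : F[X]).natDegree = N := FiniteField.X_pow_card_sub_X_natDegree_eq F (by omega)
    by_cases hall : ∀ x : Fx, x.1 = 0
    · haveI : Subsingleton Fx := ⟨fun p q => Subtype.ext (by rw [hall p, hall q])⟩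
      exact le_trans (Finite.card_le_one_iff_subsingleton.2 inferInstance) (by omega)
    push Not at hall
    obtain ⟨x₀, hx₀⟩ := hall
    have hmem : ∀ x : Fx, x.1 / x₀.1 ∈ (X ^ N - X : F[X]).roots.toFinset := fun x => by
      rw [Multiset.mem_toFinset, mem_roots hpne, IsRoot, eval_sub, eval_pow, eval_X, sub_eq_zero]
      refine hz' _ ?_
      rw [div_pow, ← mul_div_mul_left _ _ hy0, x.2, x₀.2]
    refine le_trans (Nat.card_le_card_of_injective (fun x => (⟨_, hmem x⟩ :
      ((X ^ N - X : F[X]).roots.toFinset : Finset F))) fun x x' h => ?_) ?_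
    · exact Subtype.ext ((div_left_inj' hx₀).1 (congrArg Subtype.val h))
    · rw [Nat.card_eq_fintype_card, Fintype.card_coe]
      exact le_trans (Multiset.toFinset_card_le _) (le_trans (card_roots' _) hdeg.le)
  have h64 : ∀ z : F, z ^ 64 = z := fun z => by
    have := FiniteField.pow_card z
    rw [c.card, ← hn, hn6] at this
    norm_num at this
    exact this
  rcases hex6 with ⟨hd2, hi3⟩ | ⟨hd3, hi24⟩ | ⟨hd4, hi3⟩
  swap
  · refine lt_of_le_of_lt (hbound 4 (by norm_num) fun z hz' => ?_) (lt_of_lt_of_le ?_ hRle)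
    · rcases hi24 with hi2 | hi4
      · rwa [hi2] at hz'
      · rw [hi4] at hz'
        norm_num at hz'
        calc z ^ 4 = (z ^ 16) ^ 4 := by rw [hz']
          _ = z := by rw [← pow_mul]; exact h64 z
    · rw [hd3]; norm_num
  swap
  · refine lt_of_le_of_lt (hbound 8 (by norm_num) fun z hz' => ?_) (lt_of_lt_of_le ?_ hRle)
    · rwa [hi3] at hz'
    · rw [hd4]; norm_num
  refine lt_of_le_of_lt (hbound 8 (by norm_num) fun z hz' => by rwa [hi3] at hz') ?_
  by_contra hsmall
  push Not at hsmall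
  -- the component is one line over the field of order four
  have hline : ∀ w ∈ W, ∃ r ∈ R, w = r * a i := by
    intro w hw
    by_contra hno
    push Not at hno
    have hinj : Function.Injective fun p : R × R =>
        (⟨(p.1 : F) * a i + (p.2 : F) * w, add_mem (hWR p.1 p.1.2 _ haW) (hWR p.2 p.2.2 _ hw)⟩ : W) := by
      rintro ⟨r, s⟩ ⟨r', s'⟩ h
      have h' : (r : F) * a i + (s : F) * w = (r' : F) * a i + (s' : F) * w := congrArg Subtype.val h
      by_cases hs : s = s'
      · subst hs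
        exact Prod.ext (Subtype.ext (mul_right_cancel₀ hai (add_right_cancel h'))) rfl
      · exfalso
        have hs0 : (s : F) - s' ≠ 0 := sub_ne_zero.2 fun e => hs (Subtype.ext e)
        refine hno ((((s - s' : R)⁻¹ * (r' - r) : R)) : F) (SetLike.coe_mem _) ?_
        have hinv : (((s - s' : R)⁻¹ : R) : F) * ((s : F) - s') = 1 := by
          have := inv_mul_cancel₀ (show (s - s' : R) ≠ 0 from sub_ne_zero.2 hs)
          exact congrArg Subtype.val this
        show w = (((s - s' : R)⁻¹ : R) : F) * ((r' : F) - r) * a i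
        linear_combination (((s - s' : R)⁻¹ : R) : F) * h' - w * hinv
    have h16 := Nat.card_le_card_of_injective _ hinj
    rw [Nat.card_prod, Nat.card_eq_fintype_card (α := R), hd, hd2] at h16
    rw [show (2 : ℕ) ^ 2 * 2 ^ 2 = 16 by norm_num] at h16
    omega
  obtain ⟨g, b, s, hs, hg, hb⟩ := c.exists_even hn6
  have hconjS : Pi.single i ((b : F) * a i ^ 2 ^ s * ((b : F)⁻¹) ^ 2 ^ (i : ℕ)) ∈ S := by
    show Ψ _ ∈ U
    convert! hU g _ (show Ψ (Pi.single i (a i)) ∈ U from haS) using 1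
    refine AddMonoidHom.ext fun v => c.e.injective ?_
    rw [hsingle]
    show _ = c.e (ρ g (Ψ (Pi.single i (a i)) (ρ g⁻¹ v)))
    rw [c.conj_monomial hg (hsingle i (a i)) v, mul_pow]
    ring
  obtain ⟨r, hr, hre⟩ := hline _ hconjS
  have hr4 : r ^ 4 = r := by
    have := hpow r hr
    rwa [hd2] at this
  have hr0 : r ≠ 0 := by
    rintro rfl
    rw [zero_mul] at hre
    simp [b.ne_zero, hai] at hre
  have hr3 : r ^ 3 = 1 := mul_right_cancel₀ hr0 (by rw [one_mul, ← pow_succ]; exact hr4)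
  obtain ⟨j, hj⟩ := hs
  have h3 : 3 ∣ 2 ^ s - 1 := by
    rw [hj, ← two_mul, pow_mul, show (2 : ℕ) ^ 2 = 4 by norm_num]
    have := Nat.sub_dvd_pow_sub_pow 4 1 j
    simpa using this
  obtain ⟨q, hq⟩ := h3
  have hs1 : 2 ^ s = 3 * q + 1 := by have := Nat.one_le_two_pow (n := s); omega
  rw [hi3] at hre
  norm_num at hre
  rw [hs1, pow_succ] at hre
  have h21 : (b : F) ^ 21 = a i ^ (9 * q) := by
    have h5 : (b : F) * a i ^ (3 * q) = r * (b : F) ^ 8 := by
      have hb0 := b.ne_zero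
      field_simp at hre
      linear_combination (b : F) * hre
    have h6 : a i ^ (3 * q) = r * (b : F) ^ 7 := mul_left_cancel₀ b.ne_zero (by rw [h5]; ring)
    calc (b : F) ^ 21 = r ^ 3 * (b : F) ^ 21 := by rw [hr3, one_mul]
      _ = (r * (b : F) ^ 7) ^ 3 := by rw [mul_pow, ← pow_mul]
      _ = a i ^ (9 * q) := by rw [← h6, ← pow_mul]; ring_nf
  refine hb (Units.ext ?_)
  rw [Units.val_pow_eq_pow_val, Units.val_one]
  have h63 : ∀ z : F, z ≠ 0 → z ^ 63 = 1 := fun z hz' => mul_right_cancel₀ hz' (by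
    rw [one_mul, ← pow_succ]; exact h64 z)
  have e3 : ((b : F) ^ 21) ^ 3 = 1 := by rw [← pow_mul]; exact h63 _ b.ne_zero
  have e7 : ((b : F) ^ 21) ^ 7 = 1 := by
    rw [h21, ← pow_mul, show 9 * q * 7 = 63 * q by ring, pow_mul, h63 _ hai, one_pow]
  calc (b : F) ^ 21 = ((b : F) ^ 21) ^ 7 * ((((b : F) ^ 21) ^ 3) ^ 2)⁻¹ := by
        rw [e3, one_pow, inv_one, mul_one, e7]
        have : ((b : F) ^ 21) ^ 7 = ((b : F) ^ 21) ^ 3 * ((b : F) ^ 21) ^ 3 * (b : F) ^ 21 := by ring
        rw [e7, e3, one_mul, one_mul] at this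
        exact this.symm
    _ = 1 := by rw [e7, e3, one_pow, inv_one, one_mul]

end Coord

end CfsgLib.Chev.SuzTwoY
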