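import Mathlib
import Cfsg.Agent.Lib.Chev.SuzTwoY.Basic
import Cfsg.Agent.Lib.Solvable.Nilpotent

/-!
2-groups with a solvable automorphism group transitive on involutions: squares lie in the centre (Higman).
-/

set_option autoImplicit false

open scoped commutatorElement

namespace CfsgLib.Chev.SuzTwoY

variable {P : Type*} [Group P] {K : Subgroup (MulAut P)}

namespace Ctx

variable (c : Ctx P K)
include c

/-- An element fixing no involution fixes no non-identity element. -/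
lemma fixed_eq_one {k : K} (hk : ∀ u : P, u * u = 1 → (k : MulAut P) u = u → u = 1) {x : P} (hx : (k : MulAut P) x = x) : x = 1 := by
  by_contra hne
  obtain ⟨f, hf⟩ := c.exists_two_pow x
  classical
  have hex : ∃ m, x ^ 2 ^ m = 1 := ⟨f, hf⟩
  have h0 : Nat.find hex ≠ 0 := fun h => hne (by simpa [h] using Nat.find_spec hex)
  set m := Nat.find hex - 1 with hm
  have hm1 : x ^ 2 ^ m ≠ 1 := Nat.find_min hex (by omega)
  have hmm : x ^ 2 ^ m * x ^ 2 ^ m = 1 := by
    rw [← pow_add, ← two_mul, ← pow_succ', hm, Nat.sub_add_cancel (Nat.pos_of_ne_zero h0)]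
    exact Nat.find_spec hex
  exact hm1 (hk _ hmm (by rw [map_pow, hx]))

omit c in
lemma apply_inv_apply (k : K) (x : P) : (k : MulAut P) (((k⁻¹ : K) : MulAut P) x) = x := by
  show ((k * k⁻¹ : K) : MulAut P) x = x
  rw [mul_inv_cancel]; rfl

lemma twist_inj {k : K} (hk : ∀ u : P, u * u = 1 → (k : MulAut P) u = u → u = 1) :
    Function.Injective fun g : P => g⁻¹ * (k : MulAut P) g := by
  intro g h (e : g⁻¹ * (k : MulAut P) g = h⁻¹ * (k : MulAut P) h)
  have : (k : MulAut P) (h * g⁻¹) = h * g⁻¹ := by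
    rw [map_mul, map_inv]
    calc (k : MulAut P) h * ((k : MulAut P) g)⁻¹
        = h * (h⁻¹ * (k : MulAut P) h) * ((k : MulAut P) g)⁻¹ := by group
      _ = h * g⁻¹ := by rw [← e]; group
  exact (mul_inv_eq_one.1 (c.fixed_eq_one hk this)).symm

lemma exists_twist {k : K} (hk : ∀ u : P, u * u = 1 → (k : MulAut P) u = u → u = 1) (S : Subgroup P)
    (hS : ∀ x ∈ S, (k : MulAut P) x ∈ S) {g : P} (hg : g ∈ S) :
    ∃ h ∈ S, g = h⁻¹ * (k : MulAut P) h := by
  haveI := c.fin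
  let t : S → S := fun h => ⟨(h : P)⁻¹ * (k : MulAut P) h, mul_mem (inv_mem h.2) (hS _ h.2)⟩
  have ht : Function.Injective t := fun a b e =>
    Subtype.ext (c.twist_inj hk (congrArg Subtype.val e))
  obtain ⟨h, hh⟩ := Finite.injective_iff_surjective.1 ht ⟨g, hg⟩
  exact ⟨h, h.2, (congrArg Subtype.val hh).symm⟩

omit c in
/-- A maximal commutative, normal, invariant subgroup over the centre. -/
structure AData (P : Type*) [Group P] (K : Subgroup (MulAut P)) (A : Subgroup P) (f : ℕ) : Prop where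
  blk : Block P K A f
  le : Subgroup.center P ≤ A
  nml : A.Normal
  max : ∀ B : Subgroup P, A ≤ B → (∀ x ∈ B, ∀ y ∈ B, x * y = y * x) →
    (∀ k : K, ∀ x ∈ B, (k : MulAut P) x ∈ B) → B.Normal → B ≤ A

lemma exists_adata : ∃ A f, AData P K A f := by
  haveI := c.fin
  obtain ⟨e₀, -, -, he₀, hee₀, -, -⟩ := c.two_invol
  let S : Set (Subgroup P) := {A | Subgroup.center P ≤ A ∧ (∀ x ∈ A, ∀ y ∈ A, x * y = y * x) ∧
    (∀ k : K, ∀ x ∈ A, (k : MulAut P) x ∈ A) ∧ A.Normal}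
  obtain ⟨A, ⟨hZA, hAc, hAK, hAn⟩, hmax⟩ := Set.Finite.exists_maximalFor id S (Set.toFinite S)
    ⟨Subgroup.center P, le_rfl, fun x _ y hy => Subgroup.mem_center_iff.1 hy x,
      fun k x hx => center_inv k hx, inferInstance⟩
  obtain ⟨f, hA⟩ := c.exists_block hAc hAK ⟨e₀, hZA (c.invol_center hee₀), he₀⟩
  exact ⟨A, f, hA, hZA, hAn, fun B hB h1 h2 h3 => hmax (j := B) ⟨hZA.trans hB, h1, h2, h3⟩ hB⟩

omit c in
/-- The elements of order two in the centre of `P` modulo `A`, as a subgroup. -/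
lemma exists_layer (A : Subgroup P) [hA : A.Normal] :
    ∃ Q : Subgroup P, ∀ g, g ∈ Q ↔ g * g ∈ A ∧ ∀ p, ⁅g, p⁆ ∈ A := by
  have hmul : ∀ g h : P, g * g ∈ A ∧ (∀ p, ⁅g, p⁆ ∈ A) → h * h ∈ A ∧ (∀ p, ⁅h, p⁆ ∈ A) →
      g * h * (g * h) ∈ A ∧ ∀ p, ⁅g * h, p⁆ ∈ A := by
    intro g h hg hh
    refine ⟨?_, fun p => ?_⟩
    · rw [show g * h * (g * h) = g * g * (g⁻¹ * ⁅h, g⁆ * g) * (h * h) by
        simp only [commutatorElement_def]; group]
      exact mul_mem (mul_mem hg.1 (by simpa using hA.conj_mem _ (hh.2 g) g⁻¹)) hh.1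
    · rw [show ⁅g * h, p⁆ = g * ⁅h, p⁆ * g⁻¹ * ⁅g, p⁆ by simp only [commutatorElement_def]; group]
      exact mul_mem (hA.conj_mem _ (hh.2 p) g) (hg.2 p)
  exact ⟨
    { carrier := {g | g * g ∈ A ∧ ∀ p, ⁅g, p⁆ ∈ A}
      one_mem' := ⟨by rw [one_mul]; exact one_mem A, fun p => by simp [one_mem]⟩
      mul_mem' := fun {g h} hg hh => hmul g h hg hh
      inv_mem' := fun {g} hg => by
        refine ⟨by rw [← mul_inv_rev]; exact inv_mem hg.1, fun p => ?_⟩
        rw [show ⁅g⁻¹, p⁆ = g⁻¹ * ⁅g, p⁆⁻¹ * g⁻¹⁻¹ by simp only [commutatorElement_def]; group]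
        exact hA.conj_mem _ (inv_mem (hg.2 p)) g⁻¹ }, fun g => Iff.rfl⟩

/-- A normal subgroup properly containing `A` meets the layer above `A`. -/
lemma exists_layer_mem (A M : Subgroup P) [A.Normal] [M.Normal] (hAM : A ≤ M) (hne : ¬ M ≤ A) :
    ∃ g ∈ M, g ∉ A ∧ g * g ∈ A ∧ ∀ p, ⁅g, p⁆ ∈ A := by
  haveI := c.fin
  haveI : Fact (Nat.Prime 2) := ⟨Nat.prime_two⟩
  have hq : IsPGroup 2 (P ⧸ A) := c.two.to_quotient A
  haveI := hq.isNilpotent
  set π := QuotientGroup.mk' A with hπ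
  haveI : (M.map π).Normal := ‹M.Normal›.map π (QuotientGroup.mk'_surjective A)
  have hMne : M.map π ≠ ⊥ := fun h => hne (by
    rw [Subgroup.map_eq_bot_iff, hπ, QuotientGroup.ker_mk'] at h
    exact h)
  have hI := CfsgLib.Solvable.normal_inf_center_ne_bot (M.map π) hMne
  haveI : Nontrivial ↥(M.map π ⊓ Subgroup.center (P ⧸ A)) :=
    (Subgroup.nontrivial_iff_ne_bot _).2 hI
  obtain ⟨n, hn, hcard⟩ :=
    (hq.to_subgroup (M.map π ⊓ Subgroup.center (P ⧸ A))).nontrivial_iff_card.1 inferInstance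
  obtain ⟨w, hw⟩ := exists_prime_orderOf_dvd_card' 2
    (show 2 ∣ Nat.card ↥(M.map π ⊓ Subgroup.center (P ⧸ A)) by rw [hcard]; exact dvd_pow_self 2 hn.ne')
  obtain ⟨⟨g, hgM, hg⟩, hwc⟩ := w.2
  refine ⟨g, hgM, fun hgA => ?_, ?_, fun p => ?_⟩
  · have : w = 1 := Subtype.ext (by rw [← hg]; exact (QuotientGroup.eq_one_iff g).2 hgA)
    rw [this, orderOf_one] at hw
    norm_num at hw
  · rw [← QuotientGroup.eq_one_iff]
    show π (g * g) = 1
    rw [map_mul, hg, ← Subgroup.coe_mul]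
    have := pow_orderOf_eq_one w
    rw [hw, pow_two] at this
    rw [this]; rfl
  · rw [← QuotientGroup.eq_one_iff]
    show π ⁅g, p⁆ = 1
    rw [map_commutatorElement, commutatorElement_eq_one_iff_mul_comm, hg]
    exact (Subgroup.mem_center_iff.1 hwc _).symm

/-- The case in which the centre is a maximal commutative normal invariant subgroup. -/
theorem sq_mem_center_one {A : Subgroup P} (hA : AData P K A 1) (p : P) :
    p * p ∈ Subgroup.center P := by
  haveI := c.fin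
  have hAZ : A ≤ Subgroup.center P := fun x hx => c.invol_center (by
    have := hA.blk.exp x hx; rwa [pow_one, pow_two] at this)
  obtain ⟨Q, hQ⟩ := exists_layer (Subgroup.center P)
  have hZQ : Subgroup.center P ≤ Q := fun z hz => (hQ z).2 ⟨mul_mem hz hz, fun r => by
    rw [commutatorElement_eq_one_iff_mul_comm.2 (Subgroup.mem_center_iff.1 hz r).symm]
    exact one_mem _⟩
  haveI hQn : Q.Normal := ⟨fun x hx r => by
    rw [conj_eq_comm]
    have h := ((hQ x).1 hx).2 r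
    exact mul_mem (hZQ (by rw [← commutatorElement_inv]; exact inv_mem h)) hx⟩
  have hQk : ∀ k : K, ∀ x ∈ Q, (k : MulAut P) x ∈ Q := fun k x hx => by
    obtain ⟨h1, h2⟩ := (hQ x).1 hx
    refine (hQ _).2 ⟨by rw [← map_mul]; exact center_inv _ h1, fun r => ?_⟩
    rw [← apply_inv_apply k r, ← map_commutatorElement]
    exact center_inv _ (h2 _)
  set M := Subgroup.centralizer (Q : Set P) with hM
  have hsub : Q ⊓ M ≤ A := hA.max (Q ⊓ M)
    (hAZ.trans (le_inf hZQ (fun z hz => Subgroup.mem_centralizer_iff.2 fun y _ =>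
      Subgroup.mem_center_iff.1 hz y)))
    (fun x hx y hy => (Subgroup.mem_centralizer_iff.1 hy.2 x hx.1))
    (fun k x hx => ⟨hQk k x hx.1, Subgroup.mem_centralizer_iff.2 fun y hy => by
      rw [← apply_inv_apply k y, ← map_mul, ← map_mul,
        Subgroup.mem_centralizer_iff.1 hx.2 _ (hQk _ _ hy)]⟩) inferInstance
  have hZM : Subgroup.center P ≤ M := fun z hz =>
    Subgroup.mem_centralizer_iff.2 fun y _ => Subgroup.mem_center_iff.1 hz y
  have hMZ : M ≤ Subgroup.center P := by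
    by_contra hne
    obtain ⟨g, hgM, hgZ, hg⟩ := c.exists_layer_mem _ M hZM hne
    exact hgZ (hAZ (hsub ⟨(hQ g).2 hg, hgM⟩))
  refine hMZ (Subgroup.mem_centralizer_iff.2 fun y hy => ?_)
  have hz : ⁅p, y⁆ ∈ Subgroup.center P := by
    rw [← commutatorElement_inv]; exact inv_mem (((hQ y).1 hy).2 p)
  have h2 : ⁅p * p, y⁆ = 1 := by
    rw [show ⁅p * p, y⁆ = p * ⁅p, y⁆ * p⁻¹ * ⁅p, y⁆ by simp only [commutatorElement_def]; group,
      Subgroup.mem_center_iff.1 hz p, mul_inv_cancel_right]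
    exact c.center_elem hz
  exact (commutatorElement_eq_one_iff_mul_comm.1 h2).symm

set_option maxHeartbeats 1600000 in
/-- The case of larger exponent. -/
theorem sq_mem_center_two {A : Subgroup P} {f : ℕ} (hAD : AData P K A f) (hf2 : 2 ≤ f) (p₀ : P) :
    p₀ * p₀ ∈ Subgroup.center P := by
  classical
  haveI := c.fin
  obtain ⟨e₀, e₁, he01, he₀, hee₀, he₁, hee₁⟩ := c.two_invol
  have hA := hAD.blk
  have hAc := hA.comm
  have hAK := hA.inv
  have hAn := hAD.nml
  have hsqz : ∀ {z : P}, z ∈ Subgroup.center P → z * z = 1 := c.center_elem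
  have hinA : ∀ {x : P}, x * x = 1 → x ∈ A := fun hx => hAD.le (c.invol_center hx)
  set T : P → P := fun x => x ^ 2 ^ (f - 1) with hT
  have hTmul : ∀ x ∈ A, ∀ y ∈ A, T (x * y) = T x * T y := fun x hx y hy =>
    (show Commute x y from hAc x hx y hy).mul_pow _
  have hTone : ∀ x ∈ A, T x * T x = 1 := fun x hx => by
    simp only [hT]
    rw [← pow_add, ← two_mul, ← pow_succ', Nat.sub_add_cancel hA.pos]
    exact hA.exp x hx
  have hTker : ∀ x ∈ A, T x = 1 → ∃ y ∈ A, x = y * y := by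
    intro x hx h1
    obtain ⟨y, hy, hye⟩ := c.root hA (f - 1) x (fun b hb => hAc b hb x hx) h1 (by omega)
    exact ⟨y, hy, by rw [hye, show f - (f - 1) = 1 by omega, pow_one, pow_two]⟩
  have hTk : ∀ (k : K) (x : P), T ((k : MulAut P) x) = (k : MulAut P) (T x) := fun k x =>
    (map_pow _ _ _).symm
  have hTsurj : ∀ u : P, u * u = 1 → ∃ a ∈ A, T a = u := fun u hu => c.top_surj hA hu
  have hT1 : ∀ x : P, x * x = 1 → T x = 1 := fun x hx => by
    simp only [hT]
    rw [show f - 1 = (f - 2) + 1 by omega, pow_succ', pow_mul, pow_two, hx, one_pow]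
  have hTsq : ∀ x ∈ A, T (x * x) = 1 := fun x hx => by rw [hTmul x hx x hx, hTone x hx]
  have hTconj : ∀ g, ∀ w ∈ A, T (g⁻¹ * w * g) = T w := fun g w hw => by
    have hz := c.invol_center (hTone w hw)
    simp only [hT] at hz ⊢
    calc (g⁻¹ * w * g) ^ 2 ^ (f - 1) = (g⁻¹ * w * g⁻¹⁻¹) ^ 2 ^ (f - 1) := by rw [inv_inv]
      _ = g⁻¹ * w ^ 2 ^ (f - 1) * g⁻¹⁻¹ := conj_pow
      _ = w ^ 2 ^ (f - 1) := by
        rw [Subgroup.mem_center_iff.1 hz g⁻¹, mul_inv_cancel_right]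
  -- the layer above `A`
  haveI := hAn
  obtain ⟨Q, hQ⟩ := exists_layer A
  have hAQ : A ≤ Q := fun a ha => (hQ a).2 ⟨mul_mem ha ha, fun p => by
    rw [commutatorElement_def, mul_assoc, mul_assoc, ← mul_assoc p]
    exact mul_mem ha (hAn.conj_mem _ (inv_mem ha) p)⟩
  have hQk : ∀ (k : K), ∀ g ∈ Q, (k : MulAut P) g ∈ Q := fun k g hg => by
    obtain ⟨h1, h2⟩ := (hQ g).1 hg
    refine (hQ _).2 ⟨by rw [← map_mul]; exact hAK k _ h1, fun p => ?_⟩
    rw [← apply_inv_apply k p, ← map_commutatorElement]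
    exact hAK k _ (h2 _)
  -- elements of the layer centralising `A`
  have hcent : ∀ g ∈ Q, (∀ a ∈ A, a * g = g * a) → g ∈ A := by
    obtain ⟨B, hB⟩ : ∃ B : Subgroup P, ∀ g, g ∈ B ↔ g ∈ Q ∧ ∀ a ∈ A, a * g = g * a :=
      ⟨Q ⊓ Subgroup.centralizer (A : Set P), fun g => by
        rw [Subgroup.mem_inf, Subgroup.mem_centralizer_iff]; rfl⟩
    have hBA : A ≤ B := fun x hx => (hB x).2 ⟨hAQ hx, fun a ha => hAc a ha x hx⟩
    have hBk : ∀ (k : K), ∀ x ∈ B, (k : MulAut P) x ∈ B := fun k x hx => by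
      obtain ⟨h1, h2⟩ := (hB x).1 hx
      refine (hB _).2 ⟨hQk k x h1, fun a ha => ?_⟩
      rw [← apply_inv_apply k a, ← map_mul, ← map_mul, h2 _ (hAK _ a ha)]
    have hsqA : ∀ x ∈ B, x * x ∈ A := fun x hx => ((hQ x).1 ((hB x).1 hx).1).1
    have hcmA : ∀ x ∈ B, ∀ y : P, ⁅x, y⁆ ∈ A := fun x hx => ((hQ x).1 ((hB x).1 hx).1).2
    have hcm : ∀ x ∈ B, ∀ a ∈ A, a * x = x * a := fun x hx => ((hB x).1 hx).2
    have hcomm : ∀ x ∈ B, ∀ y ∈ B, ⁅x, y⁆ * ⁅x, y⁆ = 1 := by
      intro x hx y hy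
      have h0 : (x * x) * y = y * (x * x) := hcm y hy _ (hsqA x hx)
      have e1 : ⁅x * x, y⁆ = 1 := commutatorElement_eq_one_iff_mul_comm.2 h0
      have e2 : ⁅x * x, y⁆ = x * ⁅x, y⁆ * x⁻¹ * ⁅x, y⁆ := by
        simp only [commutatorElement_def]; group
      rw [← hcm x hx _ (hcmA x hx y), mul_inv_cancel_right] at e2
      rw [← e2, e1]
    have hBroot : ∀ x ∈ B, T (x * x) = 1 → x ∈ A := by
      intro x hx h
      obtain ⟨y, hy, hye⟩ := hTker _ (hsqA x hx) h
      have : x * y⁻¹ * (x * y⁻¹) = 1 := by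
        have hcx : Commute x y⁻¹ := Commute.inv_right (Commute.symm (hcm x hx y hy : Commute y x))
        rw [mul_assoc, ← mul_assoc y⁻¹, ← hcx.eq, mul_assoc, ← mul_assoc, hye]; group
      simpa using mul_mem (hinA this) hy
    have hBT : ∀ x ∈ B, ∀ y ∈ B, T (x * y * (x * y)) = T (x * x) * T (y * y) := by
      intro x hx y hy
      have hcA : ⁅y, x⁆ ∈ A := hcmA y hy x
      rw [show x * y * (x * y) = x * x * (x⁻¹ * ⁅y, x⁆ * x) * (y * y) by
          simp only [commutatorElement_def]; group,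
        show x⁻¹ * ⁅y, x⁆ * x = ⁅y, x⁆ by rw [mul_assoc, hcm x hx _ hcA, inv_mul_cancel_left],
        hTmul _ (mul_mem (hsqA x hx) hcA) _ (hsqA y hy), hTmul _ (hsqA x hx) _ hcA,
        hT1 _ (hcomm y hy x hx), mul_one]
    have hBnorm : B.Normal := ⟨fun x hx p => by
      rw [conj_eq_comm]
      have h2 : ⁅p, x⁆ ∈ A := by rw [← commutatorElement_inv]; exact inv_mem (hcmA x hx p)
      exact mul_mem (hBA h2) hx⟩
    have hBcomm : ∀ x ∈ B, ∀ y ∈ B, x * y = y * x := by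
      by_contra hno
      push Not at hno
      obtain ⟨x₁, hx₁, y₁, hy₁, hne⟩ := hno
      have hxA : x₁ ∉ A := fun h => hne (hcm y₁ hy₁ x₁ h)
      have hu1 : T (x₁ * x₁) ≠ 1 := fun h => hxA (hBroot x₁ hx₁ h)
      have hsurj : ∀ u, u * u = 1 → ∃ x ∈ B, T (x * x) = u := by
        intro u hu
        by_cases h1 : u = 1
        · exact ⟨1, one_mem _, by simp [hT, h1]⟩
        obtain ⟨k, hk⟩ := c.reg _ u hu1 (hTone _ (hsqA _ hx₁)) h1 hu
        exact ⟨(k : MulAut P) x₁, hBk k _ hx₁, by rw [← map_mul, hTk, hk]⟩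
      choose r hrB hr using hsurj
      have hdep : ∀ x ∈ B, ∀ x' ∈ B, T (x * x) = T (x' * x') → x'⁻¹ * x ∈ A := by
        intro x hx x' hx' h
        refine hBroot _ (mul_mem (inv_mem hx') hx) ?_
        have h1 := hBT x' hx' (x'⁻¹ * x) (mul_mem (inv_mem hx') hx)
        rw [mul_inv_cancel_left, h] at h1
        exact mul_left_cancel (a := T (x' * x')) (by rw [← h1, mul_one])
      have hcw : ∀ x, ∀ y ∈ B, ∀ a ∈ A, ⁅x * a, y⁆ = ⁅x, y⁆ := by
        intro x y hy a ha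
        rw [show ⁅x * a, y⁆ = x * ⁅a, y⁆ * x⁻¹ * ⁅x, y⁆ by simp only [commutatorElement_def]; group,
          commutatorElement_eq_one_iff_mul_comm.2 (hcm y hy a ha), mul_one, mul_inv_cancel, one_mul]
      have hcw' : ∀ x ∈ B, ∀ y, ∀ a ∈ A, ⁅x, y * a⁆ = ⁅x, y⁆ := by
        intro x hx y a ha
        rw [← inv_inj, commutatorElement_inv, commutatorElement_inv, hcw y x hx a ha]
      let β : P → P → P := fun u v =>
        if h : u * u = 1 ∧ v * v = 1 then ⁅r u h.1, r v h.2⁆ else 1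
      have hβ : ∀ x ∈ B, ∀ y ∈ B, β (T (x * x)) (T (y * y)) = ⁅x, y⁆ := by
        intro x hx y hy
        have h1 := hTone _ (hsqA x hx)
        have h2 := hTone _ (hsqA y hy)
        simp only [β, dif_pos (And.intro h1 h2)]
        have a1 := hdep _ (hrB _ h1) x hx (hr _ h1)
        have a2 := hdep _ (hrB _ h2) y hy (hr _ h2)
        have e1 : r _ h1 = x * (x⁻¹ * r _ h1) := by group
        have e2 : r _ h2 = y * (y⁻¹ * r _ h2) := by group
        rw [e1, hcw x _ (hrB _ h2) _ a1, e2, hcw' x hx y _ a2]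
      refine hne ?_
      have := c.bilin_trivial β ?_ ?_ ?_ ?_ ?_ _ _ (hTone _ (hsqA _ hx₁)) (hTone _ (hsqA _ hy₁))
      · rw [hβ x₁ hx₁ y₁ hy₁, commutatorElement_eq_one_iff_mul_comm] at this
        exact this
      · intro u v hu hv
        rw [← hr u hu, ← hr v hv, hβ _ (hrB u hu) _ (hrB v hv)]
        exact hcomm _ (hrB u hu) _ (hrB v hv)
      · intro u v w hu hv hw
        rw [← hr u hu, ← hr v hv, ← hr w hw, ← hBT _ (hrB u hu) _ (hrB v hv),
          hβ _ (mul_mem (hrB u hu) (hrB v hv)) _ (hrB w hw), hβ _ (hrB u hu) _ (hrB w hw),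
          hβ _ (hrB v hv) _ (hrB w hw)]
        have h2 : ⁅r v hv, r w hw⁆ ∈ A := hcmA _ (hrB v hv) _
        rw [show ⁅r u hu * r v hv, r w hw⁆ = r u hu * ⁅r v hv, r w hw⁆ * (r u hu)⁻¹ *
          ⁅r u hu, r w hw⁆ by simp only [commutatorElement_def]; group,
          ← hcm _ (hrB u hu) _ h2, mul_inv_cancel_right]
        exact hAc _ h2 _ (hcmA _ (hrB u hu) _)
      · intro u v w hu hv hw
        rw [← hr u hu, ← hr v hv, ← hr w hw, ← hBT _ (hrB v hv) _ (hrB w hw),
          hβ _ (hrB u hu) _ (mul_mem (hrB v hv) (hrB w hw)), hβ _ (hrB u hu) _ (hrB w hw),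
          hβ _ (hrB u hu) _ (hrB v hv)]
        have h2 : ⁅r u hu, r w hw⁆ ∈ A := hcmA _ (hrB u hu) _
        rw [show ⁅r u hu, r v hv * r w hw⁆ = ⁅r u hu, r v hv⁆ *
          (r v hv * ⁅r u hu, r w hw⁆ * (r v hv)⁻¹) by simp only [commutatorElement_def]; group,
          ← hcm _ (hrB v hv) _ h2, mul_inv_cancel_right]
      · intro u hu
        rw [← hr u hu, hβ _ (hrB u hu) _ (hrB u hu), commutatorElement_self]
      · intro k u v hu hv
        rw [← hr u hu, ← hr v hv, ← hTk, ← hTk, map_mul, map_mul,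
          hβ _ (hBk k _ (hrB u hu)) _ (hBk k _ (hrB v hv)), hβ _ (hrB u hu) _ (hrB v hv),
          map_commutatorElement]
    exact fun g hg hga => hAD.max B hBA hBcomm hBk hBnorm ((hB g).2 ⟨hg, hga⟩)
  -- the space of involutions
  let V := Additive ↥c.invols
  letI : AddCommGroup V := { (inferInstance : AddGroup V) with
    add_comm := fun a b => congrArg Additive.ofMul (Subtype.ext
      (Subgroup.mem_center_iff.1 (c.invol_center (Additive.toMul b).2) (Additive.toMul a).1)) }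
  have hext : ∀ {a b : V}, (Additive.toMul a).1 = (Additive.toMul b).1 → a = b := fun h =>
    Additive.toMul.injective (Subtype.ext h)
  have hv2 : ∀ v : V, v + v = 0 := fun v => hext (Additive.toMul v).2
  let fK : K → ↥c.invols →* ↥c.invols := fun k =>
    ((k : MulAut P).toMonoidHom.comp c.invols.subtype).codRestrict _ fun x => by
      show (k : MulAut P) x * (k : MulAut P) x = 1
      rw [← map_mul, show (x : P) * x = 1 from x.2, map_one]
  let ρ : K →* AddMonoid.End V :=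
    { toFun := fun k => MonoidHom.toAdditive (fK k)
      map_one' := AddMonoidHom.ext fun x => rfl
      map_mul' := fun a b => AddMonoidHom.ext fun x => rfl }
  have hreg : ∀ v w : V, v ≠ 0 → w ≠ 0 → ∃ k : K, ρ k v = w := fun x y hx hy => by
    have h0 : ∀ {a : V}, a ≠ 0 → (Additive.toMul a).1 ≠ 1 := fun ha h => ha (hext h)
    obtain ⟨k, hk⟩ := c.reg _ _ (h0 hx) (Additive.toMul x).2 (h0 hy) (Additive.toMul y).2
    exact ⟨k, hext hk⟩
  haveI := c.solv
  obtain ⟨F, hF, hFf, ⟨cd⟩⟩ := exists_coord hv2 c.four_le ρ hreg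
  let ι : P → V := fun x => if h : x * x = 1 then Additive.ofMul ⟨x, h⟩ else 0
  have hι : ∀ {x : P}, x * x = 1 → (Additive.toMul (ι x)).1 = x := fun {x} hx => by
    simp only [ι, dif_pos hx]; rfl
  have hιmul : ∀ {x y : P}, x * x = 1 → y * y = 1 → ι (x * y) = ι x + ι y := fun {x y} hx hy => by
    have hxy : x * y * (x * y) = 1 := c.invols.mul_mem hx hy
    refine hext ?_
    rw [hι hxy, toMul_add, Subgroup.coe_mul, hι hx, hι hy]
  have hι1 : ι 1 = 0 := hext (hι (one_mul 1))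
  have hιinj : ∀ {x : P}, x * x = 1 → ι x = 0 → x = 1 := fun {x} hx h => by
    rw [← hι hx, h]; rfl
  have hιk : ∀ (k : K) {x : P}, x * x = 1 → ι ((k : MulAut P) x) = ρ k (ι x) := fun k {x} hx => by
    refine hext ?_
    rw [hι (by rw [← map_mul, hx, map_one])]
    exact (congrArg (fun z => (k : MulAut P) z) (hι hx)).symm
  have hιsurj : ∀ v : V, ∃ x : P, x * x = 1 ∧ ι x = v := fun v =>
    ⟨_, (Additive.toMul v).2, hext (hι (Additive.toMul v).2)⟩
  have hk₀ : ∀ u : P, u * u = 1 → (cd.k₀ : MulAut P) u = u → u = 1 := fun u hu h =>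
    hιinj hu (cd.fixed_eq_zero (by rw [← hιk _ hu, h]))
  set τ : P → V := fun a => ι (T a) with hτ
  have hτmul : ∀ x ∈ A, ∀ y ∈ A, τ (x * y) = τ x + τ y := fun x hx y hy => by
    simp only [hτ, hTmul x hx y hy]; exact hιmul (hTone x hx) (hTone y hy)
  have hτsq : ∀ y ∈ A, τ (y * y) = 0 := fun y hy => by simp only [hτ, hTsq y hy, hι1]
  have hτone : ∀ {x : P}, x * x = 1 → τ x = 0 := fun hx => by simp only [hτ, hT1 _ hx, hι1]
  have hτker : ∀ x ∈ A, τ x = 0 → ∃ y ∈ A, x = y * y := fun x hx h =>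
    hTker x hx (hιinj (hTone x hx) h)
  have hτinv : ∀ x ∈ A, τ x⁻¹ = τ x := fun x hx => by
    have h := hτmul x hx x⁻¹ (inv_mem hx)
    rw [mul_inv_cancel, hτone (one_mul 1)] at h
    exact add_left_cancel (a := τ x) (by rw [← h, hv2])
  have hτk : ∀ (k : K), ∀ x ∈ A, τ ((k : MulAut P) x) = ρ k (τ x) := fun k x hx => by
    simp only [hτ, hTk]; exact hιk k (hTone x hx)
  have hτsurj : ∀ v : V, ∃ a ∈ A, τ a = v := fun v => by
    obtain ⟨x, hx, rfl⟩ := hιsurj v
    obtain ⟨a, ha, hax⟩ := hTsurj x hx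
    exact ⟨a, ha, by simp only [hτ, hax]⟩
  have hdesc : ∀ ψ : P → V, (∀ a ∈ A, ∀ b ∈ A, ψ (a * b) = ψ a + ψ b) →
      ∃ D : V →+ V, ∀ a ∈ A, D (τ a) = ψ a := by
    intro ψ hψ
    choose s hsA hs using hτsurj
    have hdep : ∀ a ∈ A, ∀ b ∈ A, τ a = τ b → ψ a = ψ b := by
      intro a ha b hb h
      obtain ⟨y, hy, hye⟩ := hτker (b⁻¹ * a) (mul_mem (inv_mem hb) ha) (by
        rw [hτmul _ (inv_mem hb) _ ha, hτinv b hb, h, hv2])
      rw [show a = b * (y * y) by rw [← hye, mul_inv_cancel_left], hψ _ hb _ (mul_mem hy hy),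
        hψ _ hy _ hy, hv2, add_zero]
    refine ⟨AddMonoidHom.mk' (fun v => ψ (s v)) fun v w => ?_, fun a ha =>
      hdep _ (hsA _) a ha (hs _)⟩
    rw [← hψ _ (hsA v) _ (hsA w)]
    exact hdep _ (hsA _) _ (mul_mem (hsA v) (hsA w))
      (by rw [hs, hτmul _ (hsA v) _ (hsA w), hs, hs])
  -- displacements
  have hδA : ∀ g : P, ∀ a ∈ A, ⁅g, a⁆ ∈ A := fun g a ha => by
    rw [commutatorElement_def]; exact mul_mem (hAn.conj_mem a ha g) (inv_mem ha)
  have hδmul : ∀ g : P, ∀ a ∈ A, ∀ b ∈ A, ⁅g, a * b⁆ = ⁅g, a⁆ * ⁅g, b⁆ := by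
    intro g a ha b hb
    rw [show ⁅g, a * b⁆ = ⁅g, a⁆ * (a * ⁅g, b⁆ * a⁻¹) by simp only [commutatorElement_def]; group,
      hAc a ha _ (hδA g b hb), mul_inv_cancel_right]
  have hδpow : ∀ g : P, ∀ a ∈ A, ∀ j : ℕ, ⁅g, a ^ j⁆ = ⁅g, a⁆ ^ j := by
    intro g a ha j
    induction j with
    | zero => simp
    | succ j ih => rw [pow_succ, pow_succ, hδmul g _ (pow_mem ha j) a ha, ih]
  have hδz : ∀ g : P, ∀ z ∈ Subgroup.center P, ⁅g, z⁆ = 1 := fun g z hz =>
    commutatorElement_eq_one_iff_mul_comm.2 (Subgroup.mem_center_iff.1 hz g)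
  have hδsq : ∀ g : P, ∀ a ∈ A, ∃ y ∈ A, ⁅g, a⁆ = y * y := fun g a ha =>
    hTker _ (hδA g a ha) (by
      simp only [hT]
      rw [← hδpow g a ha, hδz g _ (c.invol_center (hTone a ha))])
  have hδδ : ∀ g ∈ Q, ∀ a ∈ A, ⁅g, ⁅g, a⁆⁆ * (⁅g, a⁆ * ⁅g, a⁆) = 1 := by
    intro g hg a ha
    have h1 : (g * g) * a = a * (g * g) := (hAc a ha _ ((hQ g).1 hg).1).symm
    rw [← commutatorElement_eq_one_iff_mul_comm.2 h1]
    simp only [commutatorElement_def]; group
  have hδgh : ∀ g h : P, ∀ a ∈ A, ⁅g * h, a⁆ = ⁅g, ⁅h, a⁆⁆ * ⁅h, a⁆ * ⁅g, a⁆ := by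
    intro g h a ha
    simp only [commutatorElement_def]; group
  -- the displacement has exponent two on the layer
  have hδE : ∀ g ∈ Q, ∀ a ∈ A, ⁅g, a⁆ * ⁅g, a⁆ = 1 := by
    rcases Nat.lt_or_ge f 3 with hf | hf
    · obtain rfl : f = 2 := by omega
      intro g _ a ha
      obtain ⟨y, hy, hye⟩ := hδsq g a ha
      have := hA.exp y hy
      rw [hye]
      calc y * y * (y * y) = y ^ 2 ^ 2 := by rw [show (2 : ℕ) ^ 2 = 4 by norm_num]; simp [pow_succ, mul_assoc]
        _ = 1 := this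
    have hroot : ∀ y ∈ A, ∀ y' ∈ A, y * y = y' * y' → τ y = τ y' := by
      intro y hy y' hy' h
      have hc1 : Commute y y'⁻¹ := hAc y hy _ (inv_mem hy')
      have hu : y * y'⁻¹ * (y * y'⁻¹) = 1 := by
        rw [← pow_two, hc1.mul_pow, pow_two, pow_two, h]; group
      have := hτone hu
      rw [hτmul _ hy _ (inv_mem hy'), hτinv y' hy'] at this
      exact add_right_cancel (b := τ y') (by rw [this, hv2])
    have hex : ∀ g : P, ∃ E : V →+ V, ∀ a ∈ A, ∀ y ∈ A, ⁅g, a⁆ = y * y → E (τ a) = τ y := by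
      intro g
      choose y hy hye using hδsq g
      obtain ⟨E, hE⟩ := hdesc (fun a => if h : a ∈ A then τ (y a h) else 0) (fun a ha b hb => by
        simp only [dif_pos ha, dif_pos hb, dif_pos (mul_mem ha hb)]
        rw [← hτmul _ (hy a ha) _ (hy b hb)]
        refine hroot _ (hy _ _) _ (mul_mem (hy a ha) (hy b hb)) ?_
        rw [← hye, hδmul g a ha b hb, hye a ha, hye b hb]
        exact Commute.mul_mul_mul_comm (hAc (y a ha) (hy a ha) (y b hb) (hy b hb)) _ _)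
      refine ⟨E, fun a ha y' hy' h => ?_⟩
      rw [hE a ha, dif_pos ha]
      exact hroot _ (hy a ha) _ hy' (by rw [← hye, h])
    choose E hE using hex
    have hEadd : ∀ g h : P, E (g * h) = E g + E h := by
      intro g h
      refine AddMonoidHom.ext fun v => ?_
      obtain ⟨a, ha, rfl⟩ := hτsurj v
      obtain ⟨z, hz, hze⟩ := hδsq h a ha
      obtain ⟨y, hy, hye⟩ := hδsq g a ha
      obtain ⟨w, hw, hwe⟩ := hδsq g z hz
      rw [AddMonoidHom.add_apply, hE g a ha y hy hye, hE h a ha z hz hze]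
      have hwz : w * w * z ∈ A := mul_mem (mul_mem hw hw) hz
      rw [hE (g * h) a ha (w * w * z * y) (mul_mem hwz hy) ?_, hτmul _ hwz _ hy,
        hτmul _ (mul_mem hw hw) _ hz, hτsq w hw, zero_add, add_comm]
      rw [hδgh g h a ha, hze, hye, hδmul g z hz z hz, hwe]
      have c1 : Commute (w * w) z := hAc _ (mul_mem hw hw) _ hz
      have c2 : Commute (w * w * z) y := hAc _ hwz _ hy
      rw [← pow_two (w * w * z * y), c2.mul_pow, c1.mul_pow, pow_two, pow_two, pow_two]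
    have hEidem : ∀ g ∈ Q, ∀ v, E g (E g v) = E g v := by
      intro g hg v
      obtain ⟨a, ha, rfl⟩ := hτsurj v
      obtain ⟨y, hy, hye⟩ := hδsq g a ha
      obtain ⟨w, hw, hwe⟩ := hδsq g y hy
      rw [hE g a ha y hy hye, hE g y hy w hw hwe]
      have h := hδδ g hg a ha
      rw [hye, hδmul g y hy y hy, hwe] at h
      have c1 : Commute w y := hAc w hw y hy
      have h4 : (w * y) ^ 4 = 1 := by
        rw [c1.mul_pow]
        simpa [pow_succ, mul_assoc] using h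
      have h0 : τ (w * y) = 0 := by
        simp only [hτ, hT]
        rw [show f - 1 = 2 + (f - 3) by omega, pow_add, show (2 : ℕ) ^ 2 = 4 by norm_num, pow_mul, h4,
          one_pow, hι1]
      rw [hτmul w hw y hy] at h0
      exact add_right_cancel (b := τ y) (by rw [h0, hv2])
    have hEk : ∀ (k : K) (g : P) (v : V), E ((k : MulAut P) g) (ρ k v) = ρ k (E g v) := by
      intro k g v
      obtain ⟨a, ha, rfl⟩ := hτsurj v
      obtain ⟨y, hy, hye⟩ := hδsq g a ha
      rw [← hτk k a ha, hE g a ha y hy hye,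
        hE _ _ (hAK k a ha) _ (hAK k y hy) (by rw [← map_commutatorElement, hye, map_mul]), hτk k y hy]
    have hcomm : ∀ g ∈ Q, ∀ h ∈ Q, ∀ v, E g (E h v) = E h (E g v) := by
      intro g hg h hh v
      have := hEidem _ (mul_mem hg hh) v
      simp only [hEadd, AddMonoidHom.add_apply, map_add, hEidem g hg, hEidem h hh] at this
      have h' : E g (E h v) + E h (E g v) = 0 := by
        refine add_left_cancel (a := E g v + E h v) ?_
        rw [add_zero]
        conv_rhs => rw [← this]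
        abel
      exact add_right_cancel (b := E h (E g v)) (by rw [h', hv2])
    have heig : ∀ s : Finset P, (∀ g ∈ s, g ∈ Q) →
        ∃ v : V, v ≠ 0 ∧ ∀ g ∈ s, E g v = 0 ∨ E g v = v := by
      intro s
      induction s using Finset.induction_on with
      | empty => exact fun _ => ⟨ι e₀, fun h => he₀ (hιinj hee₀ h), fun g hg => absurd hg (by simp)⟩
      | insert g s _ ih =>
        intro hs
        obtain ⟨v, hv, hvs⟩ := ih fun x hx => hs x (Finset.mem_insert_of_mem hx)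
        have hgQ := hs g (Finset.mem_insert_self g s)
        by_cases h0 : E g v = 0
        · exact ⟨v, hv, fun x hx => (Finset.mem_insert.1 hx).elim (fun e => Or.inl (e ▸ h0)) (hvs x)⟩
        refine ⟨E g v, h0, fun x hx => ?_⟩
        rcases Finset.mem_insert.1 hx with rfl | hx'
        · exact Or.inr (hEidem x hgQ v)
        · rw [hcomm x (hs x hx) g hgQ]
          rcases hvs x hx' with h | h <;> simp [h]
    obtain ⟨v₀, hv₀, hv₀s⟩ := heig (Q : Set P).toFinite.toFinset fun g hg => by simpa using hg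
    have hscal : ∀ g ∈ Q, ∀ u, E g u = 0 ∨ E g u = u := by
      intro g hg u
      by_cases hu : u = 0
      · exact Or.inl (by rw [hu, map_zero])
      obtain ⟨k, rfl⟩ := hreg v₀ u hv₀ hu
      rw [← apply_inv_apply k g, hEk]
      rcases hv₀s (((k⁻¹ : K) : MulAut P) g) (by simpa using hQk k⁻¹ g hg) with h | h
      · exact Or.inl (by rw [h, map_zero])
      · exact Or.inr (by rw [h])
    have hscal' : ∀ g ∈ Q, ∀ u w, u ≠ 0 → E g u = u → E g w = w := by
      intro g hg u w hu h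
      rcases hscal g hg w with hw | hw
      · rcases hscal g hg (u + w) with hh | hh <;> rw [map_add, h, hw, add_zero] at hh
        · exact absurd hh hu
        · rw [hw]
          exact add_left_cancel (a := u) (by rw [add_zero]; exact hh)
      · exact hw
    have hE0 : ∀ g ∈ Q, E g = 0 := by
      intro g hg
      set k := cd.k₀
      have hk := hk₀
      obtain ⟨h, hh, rfl⟩ := c.exists_twist hk Q (hQk k) hg
      have hE1 : E 1 = 0 := by
        have h1 := hEadd 1 1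
        rw [one_mul] at h1
        exact add_left_cancel (a := E 1) (by rw [← h1, add_zero])
      have hinv : E h⁻¹ = E h := AddMonoidHom.ext fun v => by
        have h1 := hEadd h⁻¹ h
        rw [inv_mul_cancel, hE1] at h1
        have h2 := DFunLike.congr_fun h1.symm v
        rw [AddMonoidHom.add_apply, AddMonoidHom.zero_apply] at h2
        exact add_right_cancel (b := E h v) (by rw [h2, hv2])
      rw [hEadd, hinv]
      refine AddMonoidHom.ext fun u => ?_
      have hρ : u = ρ k (ρ k⁻¹ u) := by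
        show u = (ρ k * ρ k⁻¹) u
        rw [← map_mul, mul_inv_cancel, map_one]; rfl
      rw [AddMonoidHom.add_apply, AddMonoidHom.zero_apply]
      conv_lhs => rw [hρ, hEk]
      rcases hscal h hh (ρ k⁻¹ u) with h0 | h1
      · rcases hscal h hh u with h2 | h2
        · rw [← hρ, h2, h0, map_zero, add_zero]
        · by_cases hu : u = 0
          · rw [← hρ, h2, h0, map_zero, hu, add_zero]
          · have h3 := hscal' h hh u (ρ k⁻¹ u) hu h2
            rw [← hρ, h2, h3, ← hρ, hv2]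
      · by_cases hu : ρ k⁻¹ u = 0
        · have hu' : u = 0 := by rw [hρ, hu, map_zero]
          simp [hu']
        · rw [h1, ← hρ, hscal' h hh _ u hu h1, hv2]
    intro g hg
    suffices ∀ j, 2 ≤ j → j ≤ f - 1 → ∀ a ∈ A, ∃ x ∈ A, ⁅g, a⁆ = x ^ 2 ^ j by
      intro a ha
      obtain ⟨x, hx, hxe⟩ := this (f - 1) (by omega) le_rfl a ha
      rw [hxe, ← pow_add, ← two_mul, ← pow_succ', Nat.sub_add_cancel hA.pos]
      exact hA.exp x hx
    intro j hj
    induction j, hj using Nat.le_induction with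
    | base =>
      intro _ a ha
      obtain ⟨y, hy, hye⟩ := hδsq g a ha
      have h := hE g a ha y hy hye
      rw [hE0 g hg, AddMonoidHom.zero_apply] at h
      obtain ⟨w, hw, hwe⟩ := hτker y hy h.symm
      exact ⟨w, hw, by rw [hye, hwe]; simp [pow_succ, mul_assoc]⟩
    | succ j hj ih =>
      intro hjf a ha
      obtain ⟨y, hy, hye⟩ := ih (by omega) a ha
      obtain ⟨z, hz, hze⟩ := ih (by omega) y hy
      have h := hδδ g hg a ha
      nth_rewrite 1 [hye] at h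
      rw [hδpow g y hy, hze, ← pow_mul, ← pow_add] at h
      set u := z⁻¹ ^ 2 ^ (j + j - 1) with hu
      have huA : u ∈ A := pow_mem (inv_mem hz) _
      have h2 : ⁅g, a⁆ * u⁻¹ * (⁅g, a⁆ * u⁻¹) = 1 := by
        have c1 : Commute ⁅g, a⁆ u⁻¹ := hAc _ (hδA g a ha) _ (inv_mem huA)
        rw [← pow_two, c1.mul_pow, pow_two, inv_pow, hu, ← pow_mul, ← pow_succ,
          show j + j - 1 + 1 = j + j by omega, inv_pow, inv_inv,
          hAc _ (mul_mem (hδA g a ha) (hδA g a ha)) _ (pow_mem hz _)]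
        exact h
      obtain ⟨r, hr, hre⟩ := c.top_surj hA h2
      refine ⟨r ^ 2 ^ (f - 1 - (j + 1)) * z⁻¹ ^ 2 ^ (j + j - 1 - (j + 1)),
        mul_mem (pow_mem hr _) (pow_mem (inv_mem hz) _), ?_⟩
      have c2 : Commute (r ^ 2 ^ (f - 1 - (j + 1))) (z⁻¹ ^ 2 ^ (j + j - 1 - (j + 1))) :=
        hAc _ (pow_mem hr _) _ (pow_mem (inv_mem hz) _)
      rw [c2.mul_pow, ← pow_mul, ← pow_mul, ← pow_add, ← pow_add, Nat.sub_add_cancel (by omega),
        Nat.sub_add_cancel (by omega), hre, ← hu, inv_mul_cancel_right]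
  -- the reduced displacement
  have hexD : ∀ g : P, ∃ D : V →+ V, g ∈ Q → ∀ a ∈ A, D (τ a) = ι ⁅g, a⁆ := by
    intro g
    by_cases hg : g ∈ Q
    · obtain ⟨D, hD⟩ := hdesc (fun a => ι ⁅g, a⁆) fun a ha b hb => by
        rw [hδmul g a ha b hb]; exact hιmul (hδE g hg a ha) (hδE g hg b hb)
      exact ⟨D, fun _ => hD⟩
    · exact ⟨0, fun h => absurd h hg⟩
  choose D hD using hexD
  have hDadd : ∀ g ∈ Q, ∀ h ∈ Q, D (g * h) = D g + D h := by
    intro g hg h hh
    refine AddMonoidHom.ext fun v => ?_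
    obtain ⟨a, ha, rfl⟩ := hτsurj v
    rw [AddMonoidHom.add_apply, hD _ (mul_mem hg hh) a ha, hD g hg a ha, hD h hh a ha, hδgh g h a ha,
      hδz g _ (c.invol_center (hδE h hh a ha)), one_mul, hιmul (hδE h hh a ha) (hδE g hg a ha), add_comm]
  have hD0 : ∀ g ∈ Q, D g = 0 → g ∈ A := fun g hg h => hcent g hg fun a ha => by
    have := hD g hg a ha
    rw [h, AddMonoidHom.zero_apply] at this
    exact (commutatorElement_eq_one_iff_mul_comm.1 (hιinj (hδE g hg a ha) this.symm)).symm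
  have hDA : ∀ g ∈ A, D g = 0 := fun g hg => AddMonoidHom.ext fun v => by
    obtain ⟨a, ha, rfl⟩ := hτsurj v
    rw [hD g (hAQ hg) a ha, commutatorElement_eq_one_iff_mul_comm.2 (hAc g hg a ha), hι1,
      AddMonoidHom.zero_apply]
  have hDk : ∀ (k : K), ∀ g ∈ Q, D ((k : MulAut P) g) =
      AddMonoidHom.comp (ρ k) ((D g).comp (ρ k⁻¹)) := by
    intro k g hg
    refine AddMonoidHom.ext fun v => ?_
    obtain ⟨a, ha, rfl⟩ := hτsurj v
    show _ = ρ k (D g (ρ k⁻¹ (τ a)))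
    have hb := hAK k⁻¹ a ha
    rw [← hτk _ a ha, hD g hg _ hb, ← hιk k (hδE g hg _ hb), map_commutatorElement, apply_inv_apply,
      hD _ (hQk k g hg) a ha]
  -- squares and commutators on the layer
  set q : P → V := fun g => τ (g * g) with hq
  set cb : P → P → V := fun g h => τ ⁅g, h⁆ with hcb
  have hQc : ∀ g ∈ Q, ∀ h : P, ⁅g, h⁆ ∈ A := fun g hg => ((hQ g).1 hg).2
  have hQs : ∀ g ∈ Q, g * g ∈ A := fun g hg => ((hQ g).1 hg).1
  have hqmul : ∀ g ∈ Q, ∀ h ∈ Q, q (g * h) = q g + cb h g + q h := by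
    intro g hg h hh
    have hv : g⁻¹ * ⁅h, g⁆ * g ∈ A := by simpa using hAn.conj_mem _ (hQc h hh g) g⁻¹
    simp only [hq, hcb]
    rw [show g * h * (g * h) = g * g * (g⁻¹ * ⁅h, g⁆ * g) * (h * h) by
        simp only [commutatorElement_def]; group,
      hτmul _ (mul_mem (hQs g hg) hv) _ (hQs h hh), hτmul _ (hQs g hg) _ hv]
    congr 2
    simp only [hτ, hTconj g _ (hQc h hh g)]
  have hcbl : ∀ g ∈ Q, ∀ h ∈ Q, ∀ l : P, cb (g * h) l = cb g l + cb h l := by
    intro g hg h hh l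
    simp only [hcb]
    have hv : g * ⁅h, l⁆ * g⁻¹ ∈ A := hAn.conj_mem _ (hQc h hh l) g
    rw [show ⁅g * h, l⁆ = g * ⁅h, l⁆ * g⁻¹ * ⁅g, l⁆ by simp only [commutatorElement_def]; group,
      hτmul _ hv _ (hQc g hg l), add_comm]
    congr 1
    have := hTconj g⁻¹ _ (hQc h hh l)
    rw [inv_inv] at this
    simp only [hτ, this]
  have hcbs : ∀ g ∈ Q, ∀ h : P, cb h g = cb g h := fun g hg h => by
    simp only [hcb]
    rw [← commutatorElement_inv, hτinv _ (hQc g hg h)]
  have hcbA : ∀ g ∈ Q, ∀ a ∈ A, cb g a = 0 := fun g hg a ha => hτone (hδE g hg a ha)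
  have hDq : ∀ g ∈ Q, D g (q g) = 0 := fun g hg => by
    rw [hq, hD g hg _ (hQs g hg), show ⁅g, g * g⁆ = 1 by
      rw [commutatorElement_eq_one_iff_mul_comm, mul_assoc], hι1]
  have hDq' : ∀ g ∈ Q, ∀ h ∈ Q, (f = 2 → D h (q g) = D g (cb h g) + cb h g) ∧
      (3 ≤ f → cb h g = 0) := by
    intro g hg h hh
    set w := ⁅h, g⁆ with hw
    have hwA : w ∈ A := hQc h hh g
    have e5 : ⁅h, g * g⁆ = ⁅g, w⁆ * (w * w) := by
      rw [show ⁅h, g * g⁆ = w * (g * w * g⁻¹) by rw [hw]; simp only [commutatorElement_def]; group,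
        conj_eq_comm, ← mul_assoc, hAc w hwA _ (hδA g w hwA), mul_assoc]
    have h1 := hδE h hh (g * g) (hQs g hg)
    have h2 := hδE g hg w hwA
    have hw4 : w * w * (w * w) = 1 := by
      rw [e5] at h1
      have c1 : Commute ⁅g, w⁆ (w * w) := hAc _ (hδA g w hwA) _ (mul_mem hwA hwA)
      rw [← pow_two, c1.mul_pow, pow_two, pow_two, h2, one_mul] at h1
      exact h1
    refine ⟨fun hf => ?_, fun hf => ?_⟩
    · simp only [hq, hcb]
      rw [hD h hh _ (hQs g hg), ← hw, hD g hg _ hwA, e5, hιmul h2 hw4]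
      congr 1
      simp only [hτ, hT, hf]
      rw [show 2 ^ (2 - 1) = 2 by norm_num, pow_two]
    · simp only [hcb, ← hw, hτ, hT]
      rw [show f - 1 = 2 + (f - 3) by omega, pow_add, show (2 : ℕ) ^ 2 = 4 by norm_num, pow_mul,
        show w ^ 4 = w * w * (w * w) by simp [pow_succ, mul_assoc], hw4, one_pow, hι1]
  -- the image of the layer
  let U : AddSubgroup (V →+ V) :=
    { carrier := {φ | ∃ g ∈ Q, D g = φ}
      zero_mem' := ⟨1, one_mem _, hDA 1 (one_mem _)⟩
      add_mem' := by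
        rintro _ _ ⟨g, hg, rfl⟩ ⟨h, hh, rfl⟩
        exact ⟨g * h, mul_mem hg hh, hDadd g hg h hh⟩
      neg_mem' := by
        rintro _ ⟨g, hg, rfl⟩
        refine ⟨g, hg, eq_neg_of_add_eq_zero_left (AddMonoidHom.ext fun v => ?_)⟩
        exact hv2 _ }
  have hUfix : ∀ φ ∈ U, AddMonoidHom.comp (ρ cd.k₀) (φ.comp (ρ cd.k₀⁻¹)) = φ → φ = 0 := by
    rintro _ ⟨g, hg, rfl⟩ hfix
    set k := cd.k₀
    have hk := hk₀
    have h0 : D (g⁻¹ * (k : MulAut P) g) = 0 := by
      have hinv : D g⁻¹ = D g := AddMonoidHom.ext fun v => by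
        have h1 := hDadd g⁻¹ (inv_mem hg) g hg
        rw [inv_mul_cancel, hDA 1 (one_mem _)] at h1
        have h2 := DFunLike.congr_fun h1.symm v
        rw [AddMonoidHom.add_apply, AddMonoidHom.zero_apply] at h2
        exact add_right_cancel (b := D g v) (by rw [h2, hv2])
      rw [hDadd _ (inv_mem hg) _ (hQk k g hg), hinv, hDk k g hg, hfix]
      exact AddMonoidHom.ext fun v => hv2 _
    obtain ⟨h, hhA, hhe⟩ := c.exists_twist hk A (hAK k)
      (hD0 _ (mul_mem (inv_mem hg) (hQk k g hg)) h0)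
    rw [c.twist_inj hk hhe]
    exact hDA h hhA
  have hspl := cd.split U
    (fun k φ hφ => by
      obtain ⟨g, hg, rfl⟩ := hφ
      exact ⟨_, hQk k g hg, hDk k g hg⟩) hUfix
  set C := {φ : V →+ V | ∃ L : AddSubgroup (V →+ V), L ≤ U ∧ φ ∈ L ∧
      (∀ ψ ∈ L, ψ ≠ 0 → Function.Injective ψ) ∧
      ∀ ψ ∈ L, ψ ≠ 0 → Nat.card {v : V // ψ v = v} < Nat.card L} with hC
  have hqC : ∀ g ∈ Q, D g ∈ C → q g = 0 := by
    rintro g hg ⟨L, -, hgL, hinj, -⟩
    by_cases h0 : D g = 0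
    · exact hτsq g (hD0 g hg h0)
    · exact hinj _ hgL h0 (by rw [hDq g hg, map_zero])
  have hcC : ∀ g ∈ Q, D g ∈ C → ∀ h ∈ Q, D h ∈ C → cb g h = 0 := by
    intro g hg hgC h hh hhC
    rcases Nat.lt_or_ge f 3 with hf | hf
    swap
    · exact (hDq' h hh g hg).2 hf
    have hf' : f = 2 := by omega
    by_contra hne
    have hfixz : ∀ g ∈ Q, D g ∈ C → ∀ h ∈ Q, D h ∈ C → D g (cb g h) = cb g h := by
      intro g hg hgC h hh hhC
      have h1 := (hDq' g hg h hh).1 hf'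
      rw [hqC g hg hgC, map_zero, hcbs g hg h] at h1
      exact (add_right_cancel (b := cb g h) (by rw [← h1, hv2])).symm
    suffices key : ∀ g ∈ Q, ∀ h ∈ Q, ∀ L Lg : AddSubgroup (V →+ V),
        L ≤ U → D h ∈ L → (∀ ψ ∈ L, ψ ≠ 0 → Function.Injective ψ) →
        (∀ ψ ∈ L, ψ ≠ 0 → Nat.card {v : V // ψ v = v} < Nat.card L) →
        Lg ≤ U → D g ∈ Lg → (∀ ψ ∈ Lg, ψ ≠ 0 → Function.Injective ψ) →
        (∀ ψ ∈ Lg, ψ ≠ 0 → Nat.card {v : V // ψ v = v} < Nat.card Lg) →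
        Nat.card Lg ≤ Nat.card L → cb g h ≠ 0 → False by
      obtain ⟨L, hLU, hhL, hLinj, hLid⟩ := hhC
      obtain ⟨Lg, hLgU, hgL, hLginj, hid⟩ := hgC
      rcases le_total (Nat.card Lg) (Nat.card L) with hle | hle
      · exact key g hg h hh L Lg hLU hhL hLinj hLid hLgU hgL hLginj hid hle hne
      · exact key h hh g hg Lg L hLgU hgL hLginj hid hLU hhL hLinj hLid hle (by rwa [hcbs g hg h])
    intro g hg h hh L Lg hLU hhL hLinj hLid hLgU hgL hLginj hid hle hne
    have hpre : ∀ ψ : L, ∃ x ∈ Q, D x = ψ.1 := fun ψ => hLU ψ.2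
    choose x hxQ hx using hpre
    have hdepc : ∀ a ∈ Q, ∀ b ∈ Q, D a = D b → cb g a = cb g b := by
      intro a ha b hb e
      have hba : b⁻¹ * a ∈ A := by
        refine hD0 _ (mul_mem (inv_mem hb) ha) ?_
        have h1 := hDadd b hb _ (mul_mem (inv_mem hb) ha)
        rw [mul_inv_cancel_left, e] at h1
        exact add_left_cancel (a := D b) (by rw [← h1, add_zero])
      rw [hcbs a ha g, hcbs b hb g, show a = b * (b⁻¹ * a) by group,
        hcbl b hb _ (mul_mem (inv_mem hb) ha), hcbs g hg (b⁻¹ * a), hcbA g hg _ hba, add_zero]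
    let γ : L →+ V := AddMonoidHom.mk' (fun ψ => cb g (x ψ)) fun ψ ψ' => by
      rw [hdepc _ (hxQ _) _ (mul_mem (hxQ ψ) (hxQ ψ')) (by
          rw [hx, hDadd _ (hxQ ψ) _ (hxQ ψ'), hx, hx]; rfl),
        hcbs _ (mul_mem (hxQ ψ) (hxQ ψ')) g, hcbl _ (hxQ ψ) _ (hxQ ψ'), ← hcbs _ (hxQ ψ) g,
        ← hcbs _ (hxQ ψ') g]
    have hgC' : D g ∈ C := ⟨Lg, hLgU, hgL, hLginj, hid⟩
    have hxC : ∀ ψ : L, D (x ψ) ∈ C := fun ψ =>
      ⟨L, hLU, by rw [hx]; exact ψ.2, hLinj, hLid⟩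
    have hγ : γ ⟨D h, hhL⟩ = cb g h := hdepc _ (hxQ _) h hh (hx _)
    have hginj : Function.Injective γ := by
      rw [injective_iff_map_eq_zero]
      intro ψ₀ hψ₀
      by_contra hψ
      have key : ∀ ψ : L, (ψ : V →+ V) (γ ψ) = γ ψ := fun ψ => by
        have h1 := hfixz (x ψ) (hxQ ψ) (hxC ψ) g hg hgC'
        rw [hx, ← hcbs _ (hxQ ψ) g] at h1
        exact h1
      have h1 := key ⟨D h, hhL⟩
      have h2 := key (⟨D h, hhL⟩ + ψ₀)
      rw [map_add, hψ₀, add_zero, hγ, AddSubgroup.coe_add, AddMonoidHom.add_apply] at h2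
      rw [hγ] at h1
      rw [h1] at h2
      have h3 : (ψ₀ : V →+ V) (cb g h) = 0 := add_left_cancel (a := cb g h) (by rw [h2, add_zero])
      exact hne (hLinj _ ψ₀.2 (fun e => hψ (Subtype.ext e)) (by rw [h3, map_zero]))
    have hg0 : D g ≠ 0 := fun e => hne (by rw [← hcbs g hg h]; exact hcbA h hh g (hD0 g hg e))
    let γ' : L → {v : V // D g v = v} := fun ψ =>
      ⟨γ ψ, hfixz g hg hgC' (x ψ) (hxQ ψ) (hxC ψ)⟩
    have h1 := Nat.card_le_card_of_injective γ' fun ψ ψ' e => hginj (congrArg Subtype.val e)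
    have h2 := hid _ hgL hg0
    omega
  have hcU : ∀ φ ∈ AddSubgroup.closure C, φ ∈ U := fun φ hφ =>
    (AddSubgroup.closure_le U).2 (fun φ hφC => by obtain ⟨L, hL, h, -⟩ := hφC; exact hL h) hφ
  have hsplit : ∀ (Pr : P → Prop), (∀ a ∈ A, Pr a) → (∀ g ∈ Q, D g ∈ C → Pr g) →
      (∀ g ∈ Q, ∀ h ∈ Q, Pr g → Pr h → Pr (g * h)) → ∀ g ∈ Q, Pr g := by
    intro Pr hPA hPC hPmul g hg
    have key : ∀ φ ∈ AddSubgroup.closure C, ∀ y ∈ Q, D y = φ → Pr y := by
      intro φ hφ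
      induction hφ using AddSubgroup.closure_induction with
      | mem φ hφ => exact fun y hy e => hPC y hy (e ▸ hφ)
      | zero => exact fun y hy e => hPA y (hD0 y hy e)
      | add φ ψ hφ hψ ih ih' =>
        intro y hy e
        obtain ⟨a, ha, hae⟩ := hcU φ hφ
        have hb : a⁻¹ * y ∈ Q := mul_mem (inv_mem ha) hy
        have hbe : D (a⁻¹ * y) = ψ := by
          have h1 := hDadd a ha _ hb
          rw [mul_inv_cancel_left, e, hae] at h1
          exact add_left_cancel h1.symm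
        simpa using hPmul a ha _ hb (ih a ha hae) (ih' _ hb hbe)
      | neg φ hφ ih =>
        intro y hy e
        refine ih y hy ?_
        rw [e]
        exact neg_eq_of_add_eq_zero_left (AddMonoidHom.ext fun v => hv2 _)
    exact key _ (hspl ⟨g, hg, rfl⟩) g hg rfl
  have hcz : ∀ g ∈ Q, ∀ h ∈ Q, cb g h = 0 := by
    have h1 : ∀ h ∈ Q, D h ∈ C → ∀ g ∈ Q, cb g h = 0 := fun h hh hhC =>
      hsplit (fun g => cb g h = 0) (fun a ha => by rw [← hcbs a (hAQ ha) h, hcbA h hh a ha])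
        (fun g hg hgC => hcC g hg hgC h hh hhC)
        (fun g hg g' hg' e e' => by rw [hcbl g hg g' hg', e, e', add_zero])
    intro g hg
    refine hsplit (fun h => cb g h = 0) (fun a ha => hcbA g hg a ha) (fun h hh hhC => h1 h hh hhC g hg)
      (fun h hh h' hh' e e' => ?_)
    rw [hcbs (h * h') (mul_mem hh hh') g, hcbl h hh h' hh', ← hcbs h hh g, ← hcbs h' hh' g, e, e',
      add_zero]
  have hq0 : ∀ g ∈ Q, q g = 0 := hsplit (fun g => q g = 0) (fun a ha => hτsq a ha) hqC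
    (fun g hg h hh e e' => by rw [hqmul g hg h hh, e, e', hcz h hh g hg, add_zero, add_zero])
  have hqT : ∀ g ∈ Q, T (g * g) = 1 := fun g hg => hιinj (hTone _ (hQs g hg)) (hq0 g hg)
  rcases Nat.lt_or_ge f 3 with hf | hf
  · -- exponent four
    obtain rfl : f = 2 := by omega
    have hδ2 : ∀ g : P, ∀ a ∈ A, ⁅g, a⁆ * ⁅g, a⁆ = 1 := fun g a ha => by
      obtain ⟨y, hy, hye⟩ := hδsq g a ha
      rw [hye]
      calc y * y * (y * y) = y ^ 2 ^ 2 := by
            rw [show (2 : ℕ) ^ 2 = 4 by norm_num]; simp [pow_succ, mul_assoc]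
        _ = 1 := hA.exp y hy
    have hCA : ∀ g : P, (∀ a ∈ A, a * g = g * a) → g ∈ A := by
      by_contra hno
      push Not at hno
      obtain ⟨g, hg, hgA⟩ := hno
      obtain ⟨r, hr, hrA, hr'⟩ := c.exists_layer_mem A (Subgroup.centralizer (A : Set P))
        (fun x hx => Subgroup.mem_centralizer_iff.2 fun a ha => hAc a ha x hx)
        (fun hle => hgA (hle (Subgroup.mem_centralizer_iff.2 hg)))
      exact hrA (hcent r ((hQ r).2 hr') (Subgroup.mem_centralizer_iff.1 hr))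
    have hsqA : ∀ p : P, p * p ∈ A := fun p => hCA _ fun a ha => by
      refine (commutatorElement_eq_one_iff_mul_comm.1 ?_).symm
      rw [show ⁅p * p, a⁆ = p * ⁅p, a⁆ * p⁻¹ * ⁅p, a⁆ by simp only [commutatorElement_def]; group,
        Subgroup.mem_center_iff.1 (c.invol_center (hδ2 p a ha)) p, mul_inv_cancel_right, hδ2 p a ha]
    have hall : ∀ p : P, p ∈ Q := fun p => (hQ p).2 ⟨hsqA p, fun r => by
      rw [show ⁅p, r⁆ = p * p * (p⁻¹ * r * (p⁻¹ * r)) * (r⁻¹ * r⁻¹) by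
        simp only [commutatorElement_def]; group]
      exact mul_mem (mul_mem (hsqA p) (hsqA _)) (hsqA _)⟩
    have h := hqT p₀ (hall p₀)
    simp only [hT, pow_one, pow_two] at h
    exact c.invol_center (by simpa [pow_succ, mul_assoc] using h)
  · -- larger exponents do not occur
    exfalso
    have hne : ¬ (⊤ : Subgroup P) ≤ A := fun h => by
      obtain ⟨x, y, hxy⟩ := c.noncomm
      exact hxy (hAc x (h (Subgroup.mem_top x)) y (h (Subgroup.mem_top y)))
    obtain ⟨g, -, hgA, hg'⟩ := c.exists_layer_mem A ⊤ le_top hne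
    have hg : g ∈ Q := (hQ g).2 hg'
    obtain ⟨y, hy, hye⟩ := hTker _ (hQs g hg) (hqT g hg)
    have hE := hδE g hg y⁻¹ (inv_mem hy)
    set d := ⁅g, y⁻¹⁆ with hd
    have hsq : g * y⁻¹ * (g * y⁻¹) = d := by
      have e : g * y⁻¹ * (g * y⁻¹) = d * y⁻¹ * (g * g) * y⁻¹ := by
        rw [hd]; simp only [commutatorElement_def]; group
      rw [e, hye]; group
    have hdA : d ∈ A := hδA g _ (inv_mem hy)
    obtain ⟨t, ht, htt⟩ := hTker d hdA (hT1 d hE)
    obtain ⟨s, hs, hst⟩ : ∃ s ∈ A, t = s * s := hTker t ht (by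
      simp only [hT]
      rw [show f - 1 = 2 + (f - 3) by omega, pow_add, show (2 : ℕ) ^ 2 = 4 by norm_num, pow_mul,
        show t ^ 4 = t * t * (t * t) by simp [pow_succ, mul_assoc], ← htt, hE, one_pow])
    have hg'Q : g * y⁻¹ ∈ Q := mul_mem hg (hAQ (inv_mem hy))
    have hts : ⁅g * y⁻¹, t⁻¹⁆ = 1 := by
      rw [hst, mul_inv_rev, hδmul _ _ (inv_mem hs) _ (inv_mem hs)]
      exact hδE _ hg'Q _ (inv_mem hs)
    rw [commutatorElement_eq_one_iff_mul_comm] at hts
    have : g * y⁻¹ * t⁻¹ * (g * y⁻¹ * t⁻¹) = 1 := by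
      rw [← pow_two, (show Commute (g * y⁻¹) t⁻¹ from hts).mul_pow, pow_two, pow_two, hsq, htt]
      group
    exact hgA (by simpa using mul_mem (mul_mem (hinA this) ht) hy)

/-- Squares in a Suzuki 2-group are central. -/
theorem sq_mem_center (p : P) : p * p ∈ Subgroup.center P := by
  obtain ⟨A, f, hA⟩ := c.exists_adata
  by_cases hf : f = 1
  · subst hf; exact c.sq_mem_center_one hA p
  · exact c.sq_mem_center_two hA (by have := hA.blk.pos; omega) p

end Ctx

end CfsgLib.Chev.SuzTwoY
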